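import Mathlib
import Groth.Prelude.Def_CAlg
import Groth.Agent.Lib.Helper6.SegDim.SDd
import Groth.Agent.Lib.Helper6.SegDim.SDe

set_option autoImplicit false
set_option linter.unusedSectionVars false
set_option linter.unusedVariables false
set_option linter.unusedSimpArgs false
set_option linter.style.haveILetI false
set_option maxHeartbeats 400000

/-!
# Hironaka's criterion for graded algebras with arbitrary weights: Hironaka bases (helper6)
-/

universe u

noncomputable section

namespace Groth.Agent.Lib.Helper6.SegCM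

open MvPolynomial LocCoh Groth.Agent.Lib.Helper6.SegDim
open scoped Pointwise

section Irr

variable {k : Type u} [Field k] {T : Type u} [CommRing T] [Algebra k T]
  (𝒯 : ℤ → Submodule k T) [GradedAlgebra 𝒯]

/-- the irrelevant ideal -/
def irr : Ideal T := Ideal.span (⋃ n ∈ Set.Ioi (0 : ℤ), (𝒯 n : Set T))

variable {𝒯}

lemma mem_irr_of_isPosHom {x : T} (hx : IsPosHom 𝒯 x) : x ∈ irr 𝒯 := by
  obtain ⟨n, hn, hxn⟩ := hx
  exact Ideal.subset_span (Set.mem_iUnion₂.mpr ⟨n, hn, hxn⟩)

lemma irr_le_of_forall_isPosHom {p : Ideal T} (h : ∀ x, IsPosHom 𝒯 x → x ∈ p) : irr 𝒯 ≤ p := by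
  unfold irr
  rw [Ideal.span_le]
  intro x hx
  obtain ⟨n, hn, hxn⟩ := Set.mem_iUnion₂.mp hx
  exact h x ⟨n, hn, hxn⟩

lemma proj_zero_of_mem_irr (hpos : ∀ n : ℤ, n < 0 → 𝒯 n = ⊥) {y : T} (hy : y ∈ irr 𝒯) :
    GradedAlgebra.proj 𝒯 0 y = 0 := by
  have key : ∀ r : T, GradedAlgebra.proj 𝒯 0 (r * y) = 0 := by
    unfold irr at hy
    induction hy using Submodule.span_induction with
    | mem x h =>
      intro r
      obtain ⟨n, hn, hxn⟩ := Set.mem_iUnion₂.mp h
      have hn' : (0 : ℤ) < n := hn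
      have h1 := proj_mul_of_mem (𝒜 := 𝒯) hxn (-n) r
      rw [neg_add_cancel] at h1
      rw [h1]
      have h2 : GradedAlgebra.proj 𝒯 (-n) r ∈ 𝒯 (-n) := by
        rw [GradedAlgebra.proj_apply]
        exact (DirectSum.decompose 𝒯 r (-n)).2
      rw [hpos (-n) (by omega), Submodule.mem_bot] at h2
      rw [h2, zero_mul]
    | zero => intro r; rw [mul_zero, map_zero]
    | add x y _ _ hx hy => intro r; rw [mul_add, map_add, hx r, hy r, add_zero]
    | smul a x _ hx =>
      intro r
      rw [smul_eq_mul, ← mul_assoc]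
      exact hx (r * a)
  have := key 1
  rwa [one_mul] at this

lemma one_notMem_irr (hpos : ∀ n : ℤ, n < 0 → 𝒯 n = ⊥) [Nontrivial T] : (1 : T) ∉ irr 𝒯 := by
  intro h
  have h1 := proj_zero_of_mem_irr hpos h
  rw [proj_of_mem (𝒜 := 𝒯) (SetLike.GradedOne.one_mem : (1 : T) ∈ 𝒯 0)] at h1
  exact one_ne_zero h1

lemma irr_ne_top (hpos : ∀ n : ℤ, n < 0 → 𝒯 n = ⊥) [Nontrivial T] : irr 𝒯 ≠ ⊤ :=
  fun h => one_notMem_irr hpos (h ▸ Submodule.mem_top)

lemma le_irr_of_isHomogeneous (hpos : ∀ n : ℤ, n < 0 → 𝒯 n = ⊥)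
    (h0 : 𝒯 0 = Submodule.span k {(1 : T)}) {I : Ideal T}
    (hI : I.IsHomogeneous 𝒯) (hne : I ≠ ⊤) : I ≤ irr 𝒯 := by
  classical
  intro z hz
  rw [← DirectSum.sum_support_decompose 𝒯 z]
  refine Ideal.sum_mem _ (fun n _ => ?_)
  have hzn : (DirectSum.decompose 𝒯 z n : T) ∈ I := hI n hz
  rcases lt_trichotomy n 0 with hn | hn | hn
  · rw [eq_zero_of_mem_neg hpos hn (DirectSum.decompose 𝒯 z n).2]
    exact Ideal.zero_mem _
  · subst hn
    have hkey : ∀ y ∈ 𝒯 0, y ∈ Submodule.span k {(1 : T)} := fun y hy => by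
      rw [← h0]; exact hy
    have hm := hkey _ (DirectSum.decompose 𝒯 z 0).2
    obtain ⟨c, hc⟩ := Submodule.mem_span_singleton.mp hm
    by_cases hc0 : c = 0
    · rw [← hc, hc0, zero_smul]
      exact Ideal.zero_mem _
    · exfalso
      apply hne
      rw [Ideal.eq_top_iff_one]
      have h1 : (1 : T) = c⁻¹ • (DirectSum.decompose 𝒯 z 0 : T) := by
        rw [← hc, smul_smul, inv_mul_cancel₀ hc0, one_smul]
      rw [h1]
      exact Submodule.smul_of_tower_mem I c⁻¹ hzn
  · exact mem_irr_of_isPosHom ⟨n, hn, (DirectSum.decompose 𝒯 z n).2⟩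

lemma smul_top_ne_top (hpos : ∀ n : ℤ, n < 0 → 𝒯 n = ⊥) [Nontrivial T] {I : Ideal T}
    (hle : I ≤ irr 𝒯) : irr 𝒯 • (⊤ : Submodule T (T ⧸ I)) ≠ ⊤ := by
  intro h
  let g : (T ⧸ I) →ₗ[T] (T ⧸ irr 𝒯) := Submodule.mapQ I (irr 𝒯) LinearMap.id hle
  have hker : irr 𝒯 • (⊤ : Submodule T (T ⧸ I)) ≤ LinearMap.ker g := by
    rw [Submodule.smul_le]
    intro r hr x _
    rw [LinearMap.mem_ker, map_smul]
    obtain ⟨y, hy⟩ := Submodule.Quotient.mk_surjective _ (g x)
    rw [← hy, ← Submodule.Quotient.mk_smul, Submodule.Quotient.mk_eq_zero]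
    exact Ideal.mul_mem_right _ _ hr
  rw [h] at hker
  have h1 : g (Submodule.Quotient.mk 1) = 0 := hker trivial
  have h2 : g (Submodule.Quotient.mk 1) = Submodule.Quotient.mk 1 := rfl
  rw [h2, Submodule.Quotient.mk_eq_zero] at h1
  exact one_notMem_irr hpos h1

end Irr

section Quot

variable {T : Type u} [CommRing T]

/-- Regularity on the quotient, unfolded. -/
lemma mem_of_mul_mem {I : Ideal T} {ℓ : T}
    (hreg : IsSMulRegular (T ⧸ I) ℓ) (s : T) (h : ℓ * s ∈ I) : s ∈ I := by
  rw [← Ideal.Quotient.eq_zero_iff_mem] at h ⊢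
  apply hreg
  show ℓ • Ideal.Quotient.mk I s = ℓ • (0 : T ⧸ I)
  rw [smul_zero]
  have : ℓ • Ideal.Quotient.mk I s = Ideal.Quotient.mk I (ℓ * s) := rfl
  rw [this, h]

/-- Quotient of `T ⧸ I` by a further element. -/
def quotEquiv (I : Ideal T) (ℓ : T) :
    QuotSMulTop ℓ (T ⧸ I) ≃ₗ[T] (T ⧸ (I ⊔ Ideal.span {ℓ})) := by
  let g : (T ⧸ I) →ₗ[T] (T ⧸ (I ⊔ Ideal.span {ℓ})) :=
    Submodule.mapQ I (I ⊔ Ideal.span {ℓ}) LinearMap.id le_sup_left
  have hsurj : Function.Surjective g := by
    intro y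
    obtain ⟨s, rfl⟩ := Submodule.Quotient.mk_surjective _ y
    exact ⟨Submodule.Quotient.mk s, rfl⟩
  have hker : (ℓ • (⊤ : Submodule T (T ⧸ I))) = LinearMap.ker g := by
    ext x
    obtain ⟨s, rfl⟩ := Submodule.Quotient.mk_surjective _ x
    rw [LinearMap.mem_ker]
    have hg : g (Submodule.Quotient.mk s) = Submodule.Quotient.mk s := rfl
    rw [hg, Submodule.Quotient.mk_eq_zero, Submodule.mem_smul_pointwise_iff_exists]
    constructor
    · rintro ⟨y, _, hy⟩
      obtain ⟨t, rfl⟩ := Submodule.Quotient.mk_surjective _ y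
      rw [← Submodule.Quotient.mk_smul, Submodule.Quotient.eq] at hy
      have : s = (s - ℓ • t) + ℓ • t := by ring
      rw [this]
      apply Submodule.add_mem_sup
      · have := I.neg_mem hy
        rwa [neg_sub] at this
      · rw [smul_eq_mul, mul_comm]
        exact Ideal.mul_mem_left _ _ (Ideal.subset_span rfl)
    · intro hs
      obtain ⟨a, ha, b, hb, rfl⟩ := Submodule.mem_sup.mp hs
      obtain ⟨t, rfl⟩ := Ideal.mem_span_singleton'.mp hb
      refine ⟨Submodule.Quotient.mk t, trivial, ?_⟩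
      rw [← Submodule.Quotient.mk_smul, Submodule.Quotient.eq]
      have : ℓ • t - (a + t * ℓ) = -a := by rw [smul_eq_mul]; ring
      rw [this]
      exact I.neg_mem ha
  exact (Submodule.quotEquivOfEq _ _ hker).trans (g.quotKerEquivOfSurjective hsurj)

end Quot

section HB

variable {k : Type u} [Field k] {T : Type u} [CommRing T] [Algebra k T]
  (𝒯 : ℤ → Submodule k T) [GradedAlgebra 𝒯]

/-- Hironaka data for `I` with `e` homogeneous parameters of positive degrees. -/
def HB (I : Ideal T) (e : ℕ) : Prop :=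
  ∃ (θ : Fin e → T) (ι : Type u) (_ : Fintype ι) (b : ι → T),
    (∀ i, IsPosHom 𝒯 (θ i)) ∧ (∀ j, ∃ n : ℤ, b j ∈ 𝒯 n) ∧
    (∀ F : ι → MvPolynomial (Fin e) k, (∑ j, aeval θ (F j) * b j) ∈ I → ∀ j, F j = 0) ∧
    (∀ s : T, ∃ c : ι → k, s - ∑ j, c j • b j ∈ I ⊔ Ideal.span (Set.range θ))

/-- Evaluation of a polynomial in one more variable. -/
def Psi {e : ℕ} (θ' : Fin e → T) (ℓ : T) :
    Polynomial (MvPolynomial (Fin e) k) →ₐ[k] T :=
  Polynomial.aevalTower (aeval θ') ℓ

lemma aeval_cons {e : ℕ} (θ' : Fin e → T) (ℓ : T) (F : MvPolynomial (Fin (e + 1)) k) :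
    aeval (Fin.cons ℓ θ' : Fin (e + 1) → T) F = Psi (k := k) θ' ℓ (finSuccEquiv k e F) := by
  have : (aeval (Fin.cons ℓ θ' : Fin (e + 1) → T)) =
      (Psi (k := k) θ' ℓ).comp (finSuccEquiv k e).toAlgHom := by
    apply MvPolynomial.algHom_ext
    intro i
    refine Fin.cases ?_ (fun j => ?_) i
    · rw [aeval_X, Fin.cons_zero, AlgHom.comp_apply]
      show ℓ = Psi (k := k) θ' ℓ (finSuccEquiv k e (X 0))
      rw [finSuccEquiv_X_zero]
      unfold Psi
      rw [Polynomial.aevalTower_X]
    · rw [aeval_X, Fin.cons_succ, AlgHom.comp_apply]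
      show θ' j = Psi (k := k) θ' ℓ (finSuccEquiv k e (X j.succ))
      rw [finSuccEquiv_X_succ]
      unfold Psi
      rw [Polynomial.aevalTower_C, aeval_X]
  rw [this]
  rfl

variable {𝒯}

theorem HB.step {I : Ideal T} (ℓ : T) (hℓ : IsPosHom 𝒯 ℓ) (hreg : ∀ s, ℓ * s ∈ I → s ∈ I) {e : ℕ}
    (h : HB 𝒯 (I ⊔ Ideal.span {ℓ}) e) : HB 𝒯 I (e + 1) := by
  obtain ⟨θ', ι, _, b, hθ', hb, hind, hspan⟩ := h
  refine ⟨Fin.cons ℓ θ', ι, inferInstance, b, ?_, hb, ?_, ?_⟩
  · intro i
    refine Fin.cases ?_ (fun j => ?_) i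
    · rw [Fin.cons_zero]; exact hℓ
    · rw [Fin.cons_succ]; exact hθ' j
  · -- independence
    intro F hF
    have key : ∀ (N : ℕ) (G : ι → Polynomial (MvPolynomial (Fin e) k)),
        (∀ j, (G j).degree < (N : WithBot ℕ)) →
        (∑ j, Psi (k := k) θ' ℓ (G j) * b j) ∈ I → ∀ j, G j = 0 := by
      intro N
      induction N with
      | zero =>
        intro G hG _ j
        have := hG j
        rw [Nat.cast_zero, Nat.WithBot.lt_zero_iff] at this
        exact Polynomial.degree_eq_bot.mp this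
      | succ N ih =>
        intro G hG hsum j
        have hdecomp : ∀ j, G j = (G j).divX * Polynomial.X + Polynomial.C ((G j).coeff 0) :=
          fun j => (Polynomial.divX_mul_X_add (G j)).symm
        have hΨ : ∀ j, Psi (k := k) θ' ℓ (G j) =
            Psi (k := k) θ' ℓ ((G j).divX) * ℓ + aeval θ' ((G j).coeff 0) := by
          intro j
          conv_lhs => rw [hdecomp j]
          rw [map_add, map_mul]
          unfold Psi
          rw [Polynomial.aevalTower_X, Polynomial.aevalTower_C]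
        have hsum' : (∑ j, aeval θ' ((G j).coeff 0) * b j) +
            ℓ * (∑ j, Psi (k := k) θ' ℓ ((G j).divX) * b j) ∈ I := by
          have : (∑ j, aeval θ' ((G j).coeff 0) * b j) +
              ℓ * (∑ j, Psi (k := k) θ' ℓ ((G j).divX) * b j) =
              ∑ j, Psi (k := k) θ' ℓ (G j) * b j := by
            rw [Finset.mul_sum, ← Finset.sum_add_distrib]
            apply Finset.sum_congr rfl
            intro j _
            rw [hΨ j]
            ring
          rw [this]
          exact hsum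
        have hc : ∀ j, (G j).coeff 0 = 0 := by
          apply hind
          have : ∑ j, aeval θ' ((G j).coeff 0) * b j =
              ((∑ j, aeval θ' ((G j).coeff 0) * b j) +
                ℓ * (∑ j, Psi (k := k) θ' ℓ ((G j).divX) * b j)) -
              (∑ j, Psi (k := k) θ' ℓ ((G j).divX) * b j) * ℓ := by ring
          rw [this]
          exact Submodule.sub_mem _ (Ideal.mem_sup_left hsum')
            (Ideal.mem_sup_right (Ideal.mul_mem_left _ _ (Ideal.subset_span rfl)))
        have h2 : ℓ * ∑ j, Psi (k := k) θ' ℓ ((G j).divX) * b j ∈ I := by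
          have : (∑ j, aeval θ' ((G j).coeff 0) * b j) = 0 := by
            apply Finset.sum_eq_zero
            intro j _
            rw [hc j, map_zero, zero_mul]
          rwa [this, zero_add] at hsum'
        have h3 := hreg _ h2
        have hdiv : ∀ j, (G j).divX = 0 := by
          apply ih (fun j => (G j).divX) (fun j => ?_) h3
          by_cases h0 : G j = 0
          · rw [h0, Polynomial.divX_zero, Polynomial.degree_zero]
            exact WithBot.bot_lt_coe _
          · have h4 := Polynomial.degree_divX_lt h0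
            have h5 := hG j
            rw [Polynomial.degree_eq_natDegree h0] at h4 h5
            have h6 : (G j).natDegree < N + 1 := by exact_mod_cast h5
            refine lt_of_lt_of_le h4 ?_
            exact_mod_cast Nat.lt_succ_iff.mp h6
        rw [hdecomp j, hdiv j, hc j, zero_mul, map_zero, add_zero]
    have hF' : (∑ j, Psi (k := k) θ' ℓ (finSuccEquiv k e (F j)) * b j) ∈ I := by
      have : (∑ j, Psi (k := k) θ' ℓ (finSuccEquiv k e (F j)) * b j) =
          ∑ j, aeval (Fin.cons ℓ θ' : Fin (e + 1) → T) (F j) * b j := by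
        apply Finset.sum_congr rfl
        intro j _
        rw [aeval_cons]
      rw [this]
      exact hF
    have hdeg : ∀ j, (finSuccEquiv k e (F j)).degree <
        ((Finset.univ.sup (fun j => (finSuccEquiv k e (F j)).natDegree) + 1 : ℕ) : WithBot ℕ) := by
      intro j
      refine lt_of_le_of_lt Polynomial.degree_le_natDegree ?_
      have : (finSuccEquiv k e (F j)).natDegree ≤
          Finset.univ.sup (fun j => (finSuccEquiv k e (F j)).natDegree) :=
        Finset.le_sup (f := fun j => (finSuccEquiv k e (F j)).natDegree) (Finset.mem_univ j)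
      exact_mod_cast Nat.lt_succ_of_le this
    intro j
    have := key _ (fun j => finSuccEquiv k e (F j)) hdeg hF' j
    exact (finSuccEquiv k e).injective (by rw [this, map_zero])
  · -- spanning modulo the parameters
    intro s
    obtain ⟨c, hc⟩ := hspan s
    refine ⟨c, ?_⟩
    have e1 : I ⊔ Ideal.span (Set.range (Fin.cons ℓ θ' : Fin (e + 1) → T)) =
        I ⊔ Ideal.span {ℓ} ⊔ Ideal.span (Set.range θ') := by
      rw [Fin.range_cons, Ideal.span_insert, sup_assoc]
    rw [e1]
    exact hc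

/-- Base case: finite dimension. -/
theorem HB.base {I : Ideal T} (hI : I.IsHomogeneous 𝒯) (hfin : Module.Finite k (T ⧸ I)) :
    HB 𝒯 I 0 := by
  classical
  let v : (Σ n : ℤ, 𝒯 n) → (T ⧸ I) := fun p => Ideal.Quotient.mk I (p.2 : T)
  have hv : Submodule.span k (Set.range v) = ⊤ := by
    rw [eq_top_iff]
    intro x _
    obtain ⟨s, rfl⟩ := Ideal.Quotient.mk_surjective x
    rw [← DirectSum.sum_support_decompose 𝒯 s, map_sum]
    refine Submodule.sum_mem _ (fun n _ => ?_)
    exact Submodule.subset_span ⟨⟨n, DirectSum.decompose 𝒯 s n⟩, rfl⟩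
  obtain ⟨κ, a, _, hsp, hli⟩ := exists_linearIndependent' k v
  rw [hv] at hsp
  haveI : Finite κ := hli.finite
  haveI : Fintype κ := Fintype.ofFinite κ
  have hmk : ∀ (c : k) (f : T), Ideal.Quotient.mk I (c • f) = c • Ideal.Quotient.mk I f :=
    fun c f => map_smul (Ideal.Quotient.mkₐ k I) c f
  refine ⟨Fin.elim0, κ, inferInstance, fun j => ((a j).2 : T), fun i => i.elim0,
    fun j => ⟨(a j).1, (a j).2.2⟩, ?_, ?_⟩
  · intro F hF
    have hFC : ∀ j, F j = C (coeff 0 (F j)) := fun j => eq_C_of_isEmpty (F j)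
    have hsum : ∑ j, coeff 0 (F j) • (v ∘ a) j = 0 := by
      rw [← Ideal.Quotient.eq_zero_iff_mem, map_sum] at hF
      rw [← hF]
      apply Finset.sum_congr rfl
      intro j _
      rw [hFC j, aeval_C, ← Algebra.smul_def, hmk]
      simp [v]
    intro j
    rw [hFC j, Fintype.linearIndependent_iff.mp hli _ hsum j, C_0]
  · intro s
    have hmem : Ideal.Quotient.mk I s ∈ Submodule.span k (Set.range (v ∘ a)) := by
      rw [hsp]; trivial
    obtain ⟨c, hc⟩ := (Submodule.mem_span_range_iff_exists_fun k).mp hmem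
    refine ⟨c, Ideal.mem_sup_left ?_⟩
    rw [← Ideal.Quotient.eq_zero_iff_mem, map_sub, map_sum, ← hc, sub_eq_zero]
    apply Finset.sum_congr rfl
    intro j _
    rw [hmk]
    rfl

end HB

end Groth.Agent.Lib.Helper6.SegCM

end
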