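import Mathlib
import Groth.Prelude.Def_CAlg
import Groth.Agent.Lib.Helper6.GrCM.Artin
import Groth.Agent.Lib.Helper6.SegCM.WHa
import Groth.Agent.Lib.Helper8.Depth1
import Groth.Agent.Lib.Helper8.Depth2
import Groth.Agent.Lib.Helper8.Depth6
import Groth.Agent.Lib.Helper8.CMPoly1

set_option autoImplicit false
set_option linter.unusedSectionVars false
set_option linter.unusedVariables false
set_option linter.unusedSimpArgs false
set_option linter.style.haveILetI false
set_option maxHeartbeats 400000

/-!
# Hironaka's criterion for graded algebras with arbitrary weights (helper6)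

A finitely generated nonnegatively graded algebra over a field (with degree zero part the field)
whose depth along the irrelevant ideal is at least its dimension is a Cohen–Macaulay ring.
-/

universe u

noncomputable section

namespace Groth.Agent.Lib.Helper6.SegCM

open MvPolynomial LocCoh Groth.Agent.Helper8.Depth Groth.Agent.Lib.Helper6.SegDim
open scoped Pointwise

variable {k : Type u} [Field k] {T : Type u} [CommRing T] [Algebra k T]
  {𝒯 : ℤ → Submodule k T} [GradedAlgebra 𝒯]

/-- Hironaka data give a Cohen–Macaulay ring. -/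
theorem cm_of_HB (hpos : ∀ n : ℤ, n < 0 → 𝒯 n = ⊥) [IsNoetherianRing T] {e : ℕ}
    (h : HB 𝒯 ⊥ e) : IsCohenMacaulayRing T := by
  classical
  obtain ⟨θ, ι, _, b, hθ, hb, hind, hspan⟩ := h
  let φ : MvPolynomial (Fin e) k →ₐ[k] T := aeval θ
  letI : Algebra (MvPolynomial (Fin e) k) T := φ.toRingHom.toAlgebra
  have hsmul : ∀ (r : MvPolynomial (Fin e) k) (x : T), r • x = aeval θ r * x := fun r x => rfl
  have hli : LinearIndependent (MvPolynomial (Fin e) k) b := by
    rw [Fintype.linearIndependent_iff]
    intro g hg j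
    apply hind g _ j
    rw [Ideal.mem_bot, ← hg]
    apply Finset.sum_congr rfl
    intro j _
    rw [hsmul]
  have hsp : ⊤ ≤ Submodule.span (MvPolynomial (Fin e) k) (Set.range b) := by
    let V : Submodule k T := Submodule.span k (Set.range b)
    have hV : ∀ v ∈ V, ∀ m, GradedAlgebra.proj 𝒯 m v ∈ V := by
      intro v hv m
      induction hv using Submodule.span_induction with
      | mem x hx =>
        obtain ⟨j, rfl⟩ := hx
        obtain ⟨n, hn⟩ := hb j
        by_cases hnm : n = m
        · subst hnm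
          rw [proj_of_mem hn]
          exact Submodule.subset_span ⟨j, rfl⟩
        · rw [proj_of_mem_ne hn hnm]
          exact Submodule.zero_mem _
      | zero => rw [map_zero]; exact Submodule.zero_mem _
      | add x y _ _ hx hy => rw [map_add]; exact Submodule.add_mem _ hx hy
      | smul c x _ hx => rw [map_smul]; exact Submodule.smul_mem _ c hx
    have hVJ : ∀ z : T, ∃ v ∈ V, z - v ∈ Ideal.span (Set.range θ) := by
      intro z
      obtain ⟨c, hc⟩ := hspan z
      rw [bot_sup_eq] at hc
      exact ⟨∑ j, c j • b j, Submodule.sum_mem _ (fun j _ =>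
        Submodule.smul_mem _ _ (Submodule.subset_span ⟨j, rfl⟩)), hc⟩
    let N : Submodule (Algebra.adjoin k (Set.range θ)) T :=
      { carrier := (Submodule.span (MvPolynomial (Fin e) k) (Set.range b) : Set T)
        add_mem' := fun h1 h2 => Submodule.add_mem _ h1 h2
        zero_mem' := Submodule.zero_mem _
        smul_mem' := by
          intro a s hs
          have hle : Algebra.adjoin k (Set.range θ) ≤ (aeval θ : MvPolynomial (Fin e) k →ₐ[k] T).range :=
            (Algebra.adjoin_range_eq_range_aeval k θ).le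
          obtain ⟨p, hp⟩ := (AlgHom.mem_range _).mp (hle a.2)
          have h1 : a • s = p • s := by
            rw [Subalgebra.smul_def, hsmul, hp, smul_eq_mul]
          show a • s ∈ Submodule.span (MvPolynomial (Fin e) k) (Set.range b)
          rw [h1]
          exact Submodule.smul_mem _ p hs }
    have hVN : ∀ v ∈ V, v ∈ N := by
      intro v hv
      show v ∈ Submodule.span (MvPolynomial (Fin e) k) (Set.range b)
      induction hv using Submodule.span_induction with
      | mem x hx => exact Submodule.subset_span hx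
      | zero => exact Submodule.zero_mem _
      | add x y _ _ hx hy => exact Submodule.add_mem _ hx hy
      | smul c x _ hx =>
        have h1 : c • x = (C c : MvPolynomial (Fin e) k) • x := by
          rw [hsmul, aeval_C, Algebra.smul_def]
        rw [h1]
        exact Submodule.smul_mem _ _ hx
    have hN := nakayama_graded hpos θ hθ V hV hVJ N hVN
    intro x _
    have hx : x ∈ N := by rw [hN]; trivial
    exact hx
  let B := Module.Basis.mk hli hsp
  haveI : Module.Free (MvPolynomial (Fin e) k) T := Module.Free.of_basis B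
  haveI : Module.Finite (MvPolynomial (Fin e) k) T := Module.Finite.of_basis B
  have hP : IsCohenMacaulayRing (MvPolynomial (Fin e) k) :=
    Groth.Agent.Helper8.CplMap.isCohenMacaulayRing_of_isRegularRing _
  refine Groth.Agent.Helper8.CMPoly.isCohenMacaulayRing_of_flat_of_fibres _ _ hP (fun q hq => ?_)
  exact @Groth.Agent.Lib.Helper6.GrCM.isCohenMacaulayRing_of_isArtinianRing (q.Fiber T) _
    (IsArtinianRing.of_finite q.ResidueField _)

/-- A module of positive depth along the irrelevant ideal admits a regular homogeneous element of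
positive degree. -/
theorem exists_homog_regular (hpos : ∀ n : ℤ, n < 0 → 𝒯 n = ⊥) [IsNoetherianRing T]
    (M : Type u) [AddCommGroup M] [Module T M] [Module.Finite T M]
    (hne : irr 𝒯 • (⊤ : Submodule T M) ≠ ⊤) (hd : (1 : ℕ∞) ≤ idealDepth (irr 𝒯) M) :
    ∃ ℓ : T, IsPosHom 𝒯 ℓ ∧ IsSMulRegular M ℓ := by
  classical
  obtain ⟨rs, hlen, hreg, hmem⟩ := (le_idealDepth_iff hne 1).mp (by exact_mod_cast hd)
  obtain ⟨x, rfl⟩ : ∃ x, rs = [x] := List.length_eq_one_iff.mp hlen
  have hx : IsSMulRegular M x := ((RingTheory.Sequence.isWeaklyRegular_cons_iff M x []).mp hreg).1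
  have hxirr : x ∈ irr 𝒯 := hmem x (by simp)
  have hfin : (associatedPrimes T M).Finite := associatedPrimes.finite _ M
  have hunion : ∀ y : T, (∀ P ∈ associatedPrimes T M, y ∉ P) → IsSMulRegular M y := by
    intro y hy
    by_contra hreg'
    have : y ∈ ⋃ P ∈ associatedPrimes T M, (P : Set T) := by
      rw [biUnion_associatedPrimes_eq_compl_regular]
      exact hreg'
    simp only [Set.mem_iUnion] at this
    obtain ⟨P, hP, hyP⟩ := this
    exact hy P hP hyP
  have hxP : ∀ P ∈ associatedPrimes T M, x ∉ P := by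
    intro P hP hxP
    have : x ∈ ⋃ P ∈ associatedPrimes T M, (P : Set T) := by
      simp only [Set.mem_iUnion]
      exact ⟨P, hP, hxP⟩
    rw [biUnion_associatedPrimes_eq_compl_regular] at this
    exact this hx
  obtain ⟨ℓ, hℓ, hℓS⟩ := exists_posHom_notMem hpos hfin.toFinset
    (fun P hP => (hfin.mem_toFinset.mp hP).isPrime)
    (fun P hP => by
      by_contra hcon
      push Not at hcon
      exact hxP P (hfin.mem_toFinset.mp hP) (irr_le_of_forall_isPosHom hcon hxirr))
  exact ⟨ℓ, hℓ, hunion ℓ (fun P hP => hℓS P (hfin.mem_toFinset.mpr hP))⟩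

/-- Existence of Hironaka data from a depth bound. -/
theorem hb_of_depth_ge (hpos : ∀ n : ℤ, n < 0 → 𝒯 n = ⊥)
    (h0 : 𝒯 0 = Submodule.span k {(1 : T)}) [Algebra.FiniteType k T] [IsNoetherianRing T]
    [Nontrivial T] :
    ∀ (e : ℕ) (I : Ideal T), I.IsHomogeneous 𝒯 → I ≠ ⊤ →
    ringKrullDim (T ⧸ I) ≤ (e : WithBot ℕ∞) →
    (e : ℕ∞) ≤ idealDepth (irr 𝒯) (T ⧸ I) → HB 𝒯 I e := by
  intro e
  induction e with
  | zero =>
    intro I hI _ hdim _
    haveI : Algebra.FiniteType k (T ⧸ I) :=
      Algebra.FiniteType.of_surjective (Ideal.Quotient.mkₐ k I) (Ideal.Quotient.mkₐ_surjective k I)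
    have hdim0 : ringKrullDim (T ⧸ I) ≤ 0 := by simpa using hdim
    haveI : Ring.KrullDimLE 0 (T ⧸ I) := Ring.krullDimLE_iff.mpr hdim0
    exact HB.base hI ((Module.finite_iff_krullDimLE_zero k (T ⧸ I)).mpr inferInstance)
  | succ e ih =>
    intro I hI hne hdim hdepth
    have hle : I ≤ irr 𝒯 := le_irr_of_isHomogeneous hpos h0 hI hne
    have hsm := smul_top_ne_top hpos hle
    have hd1 : (1 : ℕ∞) ≤ idealDepth (irr 𝒯) (T ⧸ I) := by
      refine le_trans ?_ hdepth
      exact_mod_cast Nat.succ_le_succ (Nat.zero_le e)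
    obtain ⟨ℓ, hℓ, hreg⟩ := exists_homog_regular hpos (T ⧸ I) hsm hd1
    have hℓirr : ℓ ∈ irr 𝒯 := mem_irr_of_isPosHom hℓ
    have hI' : (I ⊔ Ideal.span {ℓ}).IsHomogeneous 𝒯 := by
      apply hI.sup
      apply Ideal.homogeneous_span
      intro f hf
      rw [Set.mem_singleton_iff] at hf
      obtain ⟨n, _, hn⟩ := hℓ
      exact ⟨n, hf ▸ hn⟩
    have hle' : I ⊔ Ideal.span {ℓ} ≤ irr 𝒯 :=
      sup_le hle ((Ideal.span_singleton_le_iff_mem _).mpr hℓirr)
    have hne' : I ⊔ Ideal.span {ℓ} ≠ ⊤ := fun h => irr_ne_top hpos (top_le_iff.mp (h ▸ hle'))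
    -- dimension drops
    have hdim' : ringKrullDim (T ⧸ (I ⊔ Ideal.span {ℓ})) ≤ (e : WithBot ℕ∞) := by
      have hnzd : Ideal.Quotient.mk I ℓ ∈ nonZeroDivisors (T ⧸ I) := by
        rw [mem_nonZeroDivisors_iff_right]
        intro y hy
        obtain ⟨s, rfl⟩ := Ideal.Quotient.mk_surjective y
        rw [← map_mul, Ideal.Quotient.eq_zero_iff_mem, mul_comm] at hy
        exact Ideal.Quotient.eq_zero_iff_mem.mpr (mem_of_mul_mem hreg s hy)
      have h1 := ringKrullDim_quotient_succ_le_of_nonZeroDivisor hnzd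
      have e1 : Ideal.span {Ideal.Quotient.mk I ℓ} = (Ideal.span {ℓ}).map (Ideal.Quotient.mk I) := by
        rw [Ideal.map_span, Set.image_singleton]
      rw [e1, ringKrullDim_eq_of_ringEquiv (DoubleQuot.quotQuotEquivQuotSup I (Ideal.span {ℓ}))] at h1
      have h2 := h1.trans hdim
      generalize ringKrullDim (T ⧸ (I ⊔ Ideal.span {ℓ})) = D at h2 ⊢
      induction D using WithBot.recBotCoe with
      | bot => exact bot_le
      | coe D =>
        have h3 : D + 1 ≤ ((e + 1 : ℕ) : ℕ∞) := by exact_mod_cast h2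
        have h4 : D ≤ (e : ℕ∞) := by
          rw [Nat.cast_add, Nat.cast_one] at h3
          exact (ENat.add_le_add_iff_right ENat.one_ne_top).mp h3
        exact_mod_cast h4
    -- depth drops
    have hdepth' : (e : ℕ∞) ≤ idealDepth (irr 𝒯) (T ⧸ (I ⊔ Ideal.span {ℓ})) := by
      have h1 := idealDepth_quotSMulTop_add_one hsm hℓirr hreg
      rw [idealDepth_congr (quotEquiv I ℓ)] at h1
      rw [← h1, Nat.cast_add, Nat.cast_one] at hdepth
      exact (ENat.add_le_add_iff_right ENat.one_ne_top).mp hdepth
    exact HB.step ℓ hℓ (mem_of_mul_mem hreg) (ih _ hI' hne' hdim' hdepth')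

/-- **Hironaka's criterion**: a finitely generated nonnegatively graded algebra over a field, with
degree zero part the field, whose depth along the irrelevant ideal is at least its dimension is a
Cohen–Macaulay ring. -/
theorem isCohenMacaulayRing_of_depth_ge (hpos : ∀ n : ℤ, n < 0 → 𝒯 n = ⊥)
    (h0 : 𝒯 0 = Submodule.span k {(1 : T)}) [Algebra.FiniteType k T] [Nontrivial T] (e : ℕ)
    (hdim : ringKrullDim T ≤ (e : WithBot ℕ∞)) (hdepth : (e : ℕ∞) ≤ idealDepth (irr 𝒯) T) :
    IsCohenMacaulayRing T := by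
  haveI : IsNoetherianRing T := Algebra.FiniteType.isNoetherianRing k T
  apply cm_of_HB hpos (e := e)
  apply hb_of_depth_ge hpos h0 e ⊥ (Ideal.IsHomogeneous.bot 𝒯) bot_ne_top
  · rw [ringKrullDim_eq_of_ringEquiv (RingEquiv.quotientBot T)]
    exact hdim
  · rw [idealDepth_congr (Submodule.quotEquivOfEqBot (⊥ : Ideal T) rfl)]
    exact hdepth

end Groth.Agent.Lib.Helper6.SegCM

end
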