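import Mathlib
import Groth.Prelude.Def_GrLC
import Groth.Prelude.Def_GrSyz
import Groth.Prelude.Def_CAlg
import Groth.Prelude.Def_Wider
import Groth.Agent.S13225
import Groth.Agent.Lib.Helper9.GrLC.Pos
import Groth.Agent.Lib.Helper9.GrHt.Main
import Groth.Agent.Lib.Helper8.Depth19
import Groth.Agent.Lib.Helper8.LC11
import Groth.Agent.Lib.Helper8.LC18
import Groth.Agent.Lib.Helper6.CMReg.CRw
import Groth.Agent.Lib.Helper6.SegK.SKq
import Groth.Agent.Lib.Helper6.SegCM.WHb

set_option autoImplicit false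
set_option linter.unusedSectionVars false
set_option linter.unusedVariables false
set_option linter.unusedSimpArgs false
set_option linter.style.haveILetI false
set_option maxHeartbeats 400000

/-!
# The Cohen–Macaulay property of a graded algebra over a field in terms of graded local cohomology
(helper6)
-/

universe u

namespace Groth.Agent.Lib.Helper6.SegCM

open CategoryTheory DirectSum Groth.Agent.Helper9.GrLCLib Groth.Agent.Helper9.GrLCLib.Trans
open Groth.Agent.Helper8.LC Groth.Agent.Helper9 Groth.Agent.Helper8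
open Groth.Agent.Lib.Helper6.CMReg Groth.Agent.Lib.Helper6.SegK Groth.Agent.Lib.Helper6.SegDim

section General

variable {R : Type u} [CommRing R] [IsNoetherianRing R] (𝒜 : ℤ → AddSubgroup R) [GradedRing 𝒜]
variable {M : Type u} [AddCommGroup M] [Module R M] (ℳ : ℤ → AddSubgroup M)
  [DirectSum.Decomposition ℳ] [SetLike.GradedSMul 𝒜 ℳ]

/-- if all the pieces of a local cohomology module vanish, the module vanishes -/
theorem subsingleton_H_of_van (a : HomogeneousIdeal 𝒜) (i : ℕ)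
    (h : ∀ g : ℤ, Van a (GrLC.GMod.of 𝒜 M ℳ) i g) : Subsingleton (LocCoh.H a.toIdeal i M) := by
  let E := Groth.Agent.S13215.Aux.res 𝒜 ℳ
  obtain ⟨Θ, -⟩ := exists_theta_LCgr 𝒜 ℳ a E i
  have hint := Groth.Agent.S13225.Aux.main 𝒜 ℳ E a i
  have hbot : ∀ g : ℤ, ∀ x ∈ E.Hcomp a i g, x = 0 :=
    fun g => (van_iff_hcomp a ℳ E i g).mp (h g)
  have hzero : ∀ x : E.H a i, x = 0 := by
    intro x
    obtain ⟨z, rfl⟩ := hint.2 x
    have hz : z = 0 := by
      refine DFinsupp.ext (fun g => ?_)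
      have h1 : ((z g : ↥(E.Hgr a i g)) : E.H a i) = 0 := hbot g _ (z g).2
      exact Subtype.ext h1
    rw [hz, map_zero]
  constructor
  intro x y
  apply Θ.symm.injective
  rw [hzero (Θ.symm x), hzero (Θ.symm y)]

/-- vanishing from the vanishing of the dimension -/
theorem van_of_finrank_lcp_eq_zero (h0 : IsField (GrLC.deg0 𝒜)) (a : HomogeneousIdeal 𝒜)
    (ha : a.toIdeal = Ideal.span (⋃ n ∈ Set.Ioi (0 : ℤ), (𝒜 n : Set R)))
    (X : GrLC.GMod.{u} 𝒜) [Module.Finite R X.carrier] (q : ℕ) (n : ℤ)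
    (h : Module.finrank (GrLC.deg0 𝒜) (LCp a X q n) = 0) : Van a X q n := by
  haveI : IsNoetherian (GrLC.deg0 𝒜) (LCp a X q n) := FinZ.finP 𝒜 a ha q X n
  letI := h0.toField
  haveI : Subsingleton (LCp a X q n) := Module.finrank_zero_iff.mp h
  intro z hz
  have h1 : (⟨z, hz⟩ : LCp a X q n) = 0 := Subsingleton.elim _ _
  exact congrArg Subtype.val h1

theorem finrank_lcp_eq_zero_of_van [Nontrivial R] (a : HomogeneousIdeal 𝒜) (X : GrLC.GMod.{u} 𝒜) (q : ℕ)
    (n : ℤ) (hv : Van a X q n) : Module.finrank (GrLC.deg0 𝒜) (LCp a X q n) = 0 := by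
  haveI : Subsingleton (LCp a X q n) := by
    constructor
    intro x y
    apply Subtype.ext
    rw [hv _ x.2, hv _ y.2]
  exact Module.finrank_zero_of_subsingleton

/-- vanishing above the dimension -/
theorem van_of_dim_lt (a : HomogeneousIdeal 𝒜) (X : GrLC.GMod.{u} 𝒜) (d : ℕ)
    (hd : ringKrullDim R ≤ d) (q : ℕ) (hq : d < q) (n : ℤ) : Van a X q n := by
  have hsub : Subsingleton (LocCoh.H a.toIdeal q X.carrier) :=
    cdLE_of_ringKrullDim_le a.toIdeal d hd X.carrier q hq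
  intro z _
  exact @Subsingleton.elim _ hsub _ _

end General

section Depth

/-- the depth is at least the index of the first nonvanishing local cohomology module -/
theorem le_idealDepth_of_subsingleton {R : Type u} [CommRing R] [IsNoetherianRing R] (J : Ideal R)
    {M : Type u} [AddCommGroup M] [Module R M] [Module.Finite R M]
    (hJM : J • (⊤ : Submodule R M) ≠ ⊤) (n : ℕ)
    (h : ∀ i : ℕ, i < n → Subsingleton (LocCoh.H J i M)) :
    (n : ℕ∞) ≤ LocCoh.idealDepth J M := by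
  obtain ⟨d, hd⟩ := ENat.ne_top_iff_exists.mp (Depth.idealDepth_ne_top hJM)
  rw [← hd]
  by_contra hlt
  rw [not_le] at hlt
  have hlt' : d < n := by exact_mod_cast hlt
  haveI := h d hlt'
  haveI := nontrivial_of_idealDepth_eq J hJM d hd.symm
  exact false_of_nontrivial_of_subsingleton (LocCoh.H J d M)

end Depth

section CM

/-- the graded local cohomology of a Cohen–Macaulay graded algebra over a field vanishes below the
dimension -/
theorem van_of_cm {R : Type u} [CommRing R] [LocCoh.IsCohenMacaulayRing R]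
    (𝒜 : ℤ → AddSubgroup R) [GradedRing 𝒜] (hpos : ∀ n : ℤ, n < 0 → 𝒜 n = ⊥)
    (h0 : IsField (GrLC.deg0 𝒜)) (a : HomogeneousIdeal 𝒜)
    (ha : a.toIdeal = Ideal.span (⋃ n ∈ Set.Ioi (0 : ℤ), (𝒜 n : Set R))) (d : ℕ)
    (hd : ringKrullDim R = d) (q : ℕ) (hq : q < d) (n : ℤ) :
    Van a (GrLC.GMod.of 𝒜 R 𝒜) q n := by
  have hirr : a = GrSyz.irrel 𝒜 := by
    apply HomogeneousIdeal.toIdeal_injective
    rw [irrel_toIdeal]
    exact ha
  have hm : GrLC.IsStarLocal 𝒜 a := by
    rw [hirr]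
    exact isStarLocal_irrel 𝒜 hpos h0
  haveI hmax : a.toIdeal.IsMaximal := Pos.isMaximal_of_isCoatom 𝒜 hpos a hm.1
  have hht : ringKrullDim R = a.toIdeal.height :=
    GrHt.ringKrullDim_eq_height_of_isStarLocal 𝒜 a hm
  have hht' : a.toIdeal.height = (d : ℕ∞) := by
    rw [hd] at hht
    exact_mod_cast hht.symm
  have hdepth : LocCoh.idealDepth a.toIdeal R = a.toIdeal.height :=
    (Depth.isCohenMacaulayRing_iff_idealDepth_eq_height.mp inferInstance) a.toIdeal hmax.ne_top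
  have hJM : a.toIdeal • (⊤ : Submodule R R) ≠ ⊤ := by
    intro h
    have h1 : (1 : R) ∈ a.toIdeal • (⊤ : Submodule R R) := by rw [h]; trivial
    have h2 : a.toIdeal • (⊤ : Submodule R R) ≤ a.toIdeal := by
      rw [Submodule.smul_le]
      intro r hr n _
      exact Ideal.mul_mem_right _ _ hr
    exact hmax.ne_top ((Ideal.eq_top_iff_one _).mpr (h2 h1))
  have hsub : Subsingleton (LocCoh.H a.toIdeal q R) := by
    apply subsingleton_of_lt_idealDepth a.toIdeal hJM q
    rw [hdepth, hht']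
    exact_mod_cast hq
  intro z _
  exact @Subsingleton.elim _ hsub _ _

end CM

section Field

variable {k : Type u} [Field k] {T : Type u} [CommRing T] [Algebra k T] [IsNoetherianRing T]
  (𝒯 : ℤ → Submodule k T) [GradedAlgebra 𝒯]

lemma toAG_eq_bot (hpos : ∀ n : ℤ, n < 0 → 𝒯 n = ⊥) : ∀ n : ℤ, n < 0 → toAG 𝒯 n = ⊥ := by
  intro n hn
  ext x
  rw [mem_toAG, hpos n hn, Submodule.mem_bot, AddSubgroup.mem_bot]

lemma isField_deg0 [Nontrivial T] (h0 : ∀ r ∈ 𝒯 0, ∃ c : k, algebraMap k T c = r) :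
    IsField (GrLC.deg0 (toAG 𝒯)) where
  exists_pair_ne := ⟨0, 1, fun h => zero_ne_one (congrArg Subtype.val h)⟩
  mul_comm := mul_comm
  mul_inv_cancel := by
    rintro ⟨r, hr⟩ hne
    obtain ⟨c, rfl⟩ := h0 r hr
    have hc : c ≠ 0 := by
      rintro rfl
      exact hne (Subtype.ext (map_zero _))
    refine ⟨toDeg0 c⁻¹, Subtype.ext ?_⟩
    show algebraMap k T c * algebraMap k T c⁻¹ = 1
    rw [← map_mul, mul_inv_cancel₀ hc, map_one]

/-- a graded algebra over a field whose graded local cohomology vanishes below the dimension is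
Cohen–Macaulay -/
theorem cm_of_van (hpos : ∀ n : ℤ, n < 0 → 𝒯 n = ⊥)
    (h0 : 𝒯 0 = Submodule.span k {(1 : T)}) [Algebra.FiniteType k T] [Nontrivial T]
    (aT : HomogeneousIdeal (toAG 𝒯))
    (haT : aT.toIdeal = Ideal.span (⋃ n ∈ Set.Ioi (0 : ℤ), (toAG 𝒯 n : Set T)))
    (t : ℕ) (hdim : ringKrullDim T ≤ t)
    (h : ∀ q : ℕ, q < t → ∀ n : ℤ, Van aT (bun 𝒯 𝒯) q n) :
    LocCoh.IsCohenMacaulayRing T := by
  have hirr : aT.toIdeal = irr 𝒯 := haT
  have hJM : irr 𝒯 • (⊤ : Submodule T T) ≠ ⊤ := by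
    intro h1
    have h2 : (1 : T) ∈ irr 𝒯 • (⊤ : Submodule T T) := by rw [h1]; trivial
    have h3 : irr 𝒯 • (⊤ : Submodule T T) ≤ irr 𝒯 := by
      rw [Submodule.smul_le]
      intro r hr n _
      exact Ideal.mul_mem_right _ _ hr
    exact one_notMem_irr hpos (h3 h2)
  apply isCohenMacaulayRing_of_depth_ge hpos h0 t hdim
  apply le_idealDepth_of_subsingleton (irr 𝒯) hJM t
  intro i hi
  have h1 := subsingleton_H_of_van (toAG 𝒯) (toAG 𝒯) aT i (h i hi)
  rw [hirr] at h1
  exact h1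

/-- the converse -/
theorem van_of_cm_field (hpos : ∀ n : ℤ, n < 0 → 𝒯 n = ⊥)
    (h0 : ∀ r ∈ 𝒯 0, ∃ c : k, algebraMap k T c = r) [Nontrivial T]
    [LocCoh.IsCohenMacaulayRing T]
    (aT : HomogeneousIdeal (toAG 𝒯))
    (haT : aT.toIdeal = Ideal.span (⋃ n ∈ Set.Ioi (0 : ℤ), (toAG 𝒯 n : Set T)))
    (t : ℕ) (hdim : ringKrullDim T = t) (q : ℕ) (hq : q < t) (n : ℤ) :
    Van aT (bun 𝒯 𝒯) q n :=
  van_of_cm (toAG 𝒯) (toAG_eq_bot 𝒯 hpos) (isField_deg0 𝒯 h0) aT haT t hdim q hq n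

end Field

end Groth.Agent.Lib.Helper6.SegCM
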