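import Mathlib
import Groth.Prelude.Def_GrLC
import Groth.Prelude.Def_GrSeg
import Groth.Prelude.Def_CAlg
import Groth.Agent.Lib.Helper3.Segre
import Groth.Agent.Lib.Helper6.SegDim.SDf
import Groth.Agent.Lib.Helper6.SegK.SKr
import Groth.Agent.Lib.Helper6.SegCM.CMa

set_option autoImplicit false
set_option linter.unusedSectionVars false
set_option linter.unusedVariables false
set_option linter.unusedSimpArgs false
set_option linter.style.haveILetI false
set_option linter.overlappingInstances false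
set_option maxHeartbeats 800000

/-!
# The Cohen–Macaulay property of Segre products (helper6)
-/

universe u

namespace Groth.Agent.Lib.Helper6.SegCM

open scoped TensorProduct
open CategoryTheory DirectSum Groth.Agent.Helper9.GrLCLib Groth.Agent.Helper9.GrLCLib.Trans
open Groth.Agent.Helper8.LC Groth.Agent.Helper9 Groth.Agent.Helper8
open Groth.Agent.Lib.Helper6.CMReg Groth.Agent.Lib.Helper6.SegK Groth.Agent.Lib.Helper6.SegDim
open Groth.Agent.Helper9.SegreLib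

section FT

variable {k : Type u} [Field k] {T : Type u} [CommRing T] [Algebra k T]
  {𝒯 : ℤ → Submodule k T} [GradedAlgebra 𝒯]

/-- a Noetherian nonnegatively graded algebra with degree zero part a field is of finite type -/
theorem finiteType_of_noeth (hpos : ∀ n : ℤ, n < 0 → 𝒯 n = ⊥)
    (h0 : 𝒯 0 = Submodule.span k {(1 : T)}) [IsNoetherianRing T] : Algebra.FiniteType k T := by
  classical
  have hfg : (Submodule.span T (⋃ n ∈ Set.Ioi (0 : ℤ), (𝒯 n : Set T))).FG :=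
    IsNoetherian.noetherian _
  obtain ⟨s', hs's, hss'⟩ := (Submodule.fg_span_iff_fg_span_finset_subset _).mp hfg
  let x : Fin s'.toList.length → T := s'.toList.get
  have hrange : Set.range x = (s' : Set T) := by
    rw [Set.range_list_get]
    ext y
    simp
  have hx : ∀ i, IsPosHom 𝒯 (x i) := by
    intro i
    have h1 : x i ∈ (s' : Set T) := by
      rw [← hrange]
      exact ⟨i, rfl⟩
    obtain ⟨e, he, hye⟩ := Set.mem_iUnion₂.mp (hs's h1)
    exact ⟨e, he, hye⟩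
  have hJ : Ideal.span (Set.range x) = irr 𝒯 := by
    rw [hrange]
    exact hss'.symm
  have hsurj : Function.Surjective (Algebra.linearMap k (T ⧸ Ideal.span (Set.range x))) := by
    intro z
    obtain ⟨z, rfl⟩ := Ideal.Quotient.mk_surjective z
    obtain ⟨c, hc⟩ := exists_sub_algebraMap_mem hpos h0 (Ideal.span (Set.range x))
      (fun y hy => by rw [hJ]; exact mem_irr_of_isPosHom hy) z
    refine ⟨c, ?_⟩
    rw [Algebra.linearMap_apply, IsScalarTower.algebraMap_apply k T (T ⧸ _)]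
    exact (Ideal.Quotient.eq.mpr hc).symm
  haveI : Module.Finite k (T ⧸ Ideal.span (Set.range x)) := Module.Finite.of_surjective _ hsurj
  haveI := finite_over_adjoin hpos x hx
  have h1 : Algebra.FiniteType k (Algebra.adjoin k (Set.range x)) :=
    (Subalgebra.fg_iff_finiteType _).mp
      (Subalgebra.fg_def.mpr ⟨Set.range x, Set.finite_range x, rfl⟩)
  exact Algebra.FiniteType.trans h1 inferInstance

lemma nontrivial_of_dim {R : Type u} [CommRing R] {r : ℕ} (hr : ringKrullDim R = r) :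
    Nontrivial R := by
  by_contra h
  rw [not_nontrivial_iff_subsingleton] at h
  rw [ringKrullDim_eq_bot_of_subsingleton] at hr
  exact WithBot.bot_ne_natCast r hr

end FT

section Pieces

variable {k : Type u} [Field k] {R : Type u} [CommRing R] [Algebra k R] [IsNoetherianRing R]
  (𝒜 : ℤ → Submodule k R) [GradedAlgebra 𝒜]

lemma finrank_comp_eq_zero_iff (h0f : IsField (GrLC.deg0 (toAG 𝒜))) (n : ℤ) :
    Module.finrank (GrLC.deg0 (toAG 𝒜)) (GrLC.comp (toAG 𝒜) (toAG 𝒜) n) = 0 ↔ 𝒜 n = ⊥ := by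
  haveI : IsNoetherian (GrLC.deg0 (toAG 𝒜)) (GrLC.comp (toAG 𝒜) (toAG 𝒜) n) :=
    FinZ.isNoetherian_comp_of_isNoetherian (toAG 𝒜) (toAG 𝒜) n
  letI := h0f.toField
  rw [Module.finrank_zero_iff]
  constructor
  · intro h
    rw [Submodule.eq_bot_iff]
    intro x hx
    have hx' : x ∈ GrLC.comp (toAG 𝒜) (toAG 𝒜) n := hx
    have h1 : (⟨x, hx'⟩ : GrLC.comp (toAG 𝒜) (toAG 𝒜) n) = 0 := Subsingleton.elim _ _
    exact congrArg Subtype.val h1
  · intro h
    constructor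
    intro x y
    apply Subtype.ext
    have hx : (x : R) ∈ 𝒜 n := x.2
    have hy : (y : R) ∈ 𝒜 n := y.2
    rw [h, Submodule.mem_bot] at hx hy
    rw [hx, hy]

end Pieces

section Segre

variable {k : Type u} [Field k] {R S T : Type u} [CommRing R] [CommRing S] [CommRing T]
  [Algebra k R] [Algebra k S] [Algebra k T]
  (𝒜 : ℤ → Submodule k R) (ℬ : ℤ → Submodule k S) (𝒯 : ℤ → Submodule k T)
  [GradedAlgebra 𝒜] [GradedAlgebra ℬ] [GradedAlgebra 𝒯]
  (ψ : T →ₐ[k] R ⊗[k] S) (hT : GrSeg.IsSegreRing 𝒜 ℬ 𝒯 ψ)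

include hT in
lemma segre_pos (hposR : ∀ n : ℤ, n < 0 → 𝒜 n = ⊥) : ∀ n : ℤ, n < 0 → 𝒯 n = ⊥ := by
  intro n hn
  rw [Submodule.eq_bot_iff]
  intro t ht
  apply hT.1
  rw [map_zero]
  have h1 : ψ t ∈ GrSeg.segrePiece k 𝒜 ℬ n := by
    rw [← hT.2 n]
    exact Submodule.mem_map_of_mem (f := ψ.toLinearMap) ht
  have h2 : GrSeg.segrePiece k 𝒜 ℬ n = ⊥ := by
    unfold GrSeg.segrePiece
    rw [Submodule.span_eq_bot]
    rintro x ⟨a, ha, b, hb, rfl⟩
    rw [hposR n hn, Submodule.mem_bot] at ha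
    rw [ha, TensorProduct.zero_tmul]
  rw [h2, Submodule.mem_bot] at h1
  exact h1

include hT in
lemma segre_zero (h0R : 𝒜 0 = Submodule.span k {(1 : R)})
    (h0S : ℬ 0 = Submodule.span k {(1 : S)}) : 𝒯 0 = Submodule.span k {(1 : T)} := by
  apply le_antisymm
  · intro t ht
    obtain ⟨c, hc⟩ := h0T_of_segre ψ hT h0R h0S t ht
    rw [Submodule.mem_span_singleton]
    exact ⟨c, by rw [← hc, Algebra.algebraMap_eq_smul_one]⟩
  · rw [Submodule.span_le, Set.singleton_subset_iff]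
    exact SetLike.GradedOne.one_mem

include hT in
/-- **the Cohen–Macaulay property of the Segre product of two Cohen–Macaulay graded algebras of
dimensions at least two** -/
theorem segre_cm_iff (hposR : ∀ n : ℤ, n < 0 → 𝒜 n = ⊥)
    (h0R : 𝒜 0 = Submodule.span k {(1 : R)}) [Algebra.FiniteType k R]
    (hposS : ∀ n : ℤ, n < 0 → ℬ n = ⊥) (h0S : ℬ 0 = Submodule.span k {(1 : S)})
    [Algebra.FiniteType k S]
    [LocCoh.IsCohenMacaulayRing R] [LocCoh.IsCohenMacaulayRing S]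
    (mR : HomogeneousIdeal 𝒜)
    (hmR : mR.toIdeal = Ideal.span (⋃ n ∈ Set.Ioi (0 : ℤ), (𝒜 n : Set R)))
    (I : GrLC.StarInjRes 𝒜 𝒜) (mS : HomogeneousIdeal ℬ)
    (hmS : mS.toIdeal = Ideal.span (⋃ n ∈ Set.Ioi (0 : ℤ), (ℬ n : Set S)))
    (J : GrLC.StarInjRes ℬ ℬ) (r s : ℕ) (hr : ringKrullDim R = r) (hs : ringKrullDim S = s)
    (h2r : 2 ≤ r) (h2s : 2 ≤ s) :
    LocCoh.IsCohenMacaulayRing T ↔
      (∀ n : ℤ, 𝒜 n = ⊥ ∨ J.Hcomp mS s n = ⊥) ∧ (∀ n : ℤ, I.Hcomp mR r n = ⊥ ∨ ℬ n = ⊥) := by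
  classical
  haveI : Nontrivial R := nontrivial_of_dim hr
  haveI : Nontrivial S := nontrivial_of_dim hs
  haveI : IsNoetherianRing T :=
    Groth.Agent.Helper3.Segre.isNoetherianRing_of_segre 𝒜 ℬ 𝒯 ψ hT.2 hT.1
  haveI : Nontrivial T := nontrivial_of_segre ψ
  have hposT := segre_pos 𝒜 ℬ 𝒯 ψ hT hposR
  have h0T := segre_zero 𝒜 ℬ 𝒯 ψ hT h0R h0S
  haveI : Algebra.FiniteType k T := finiteType_of_noeth hposT h0T
  have h0R' := h0_of_span h0R
  have h0S' := h0_of_span h0S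
  have h0T' := h0T_of_segre ψ hT h0R h0S
  have fR0 := isField_deg0 𝒜 h0R'
  have fS0 := isField_deg0 ℬ h0S'
  have fT0 := isField_deg0 𝒯 h0T'
  -- the irrelevant ideals
  let aR := idealToAG 𝒜 mR
  let aS := idealToAG ℬ mS
  let aT : HomogeneousIdeal (toAG 𝒯) := GrSyz.irrel (toAG 𝒯)
  have haR : aR.toIdeal = Ideal.span (⋃ n ∈ Set.Ioi (0 : ℤ), (toAG 𝒜 n : Set R)) := hmR
  have haS : aS.toIdeal = Ideal.span (⋃ n ∈ Set.Ioi (0 : ℤ), (toAG ℬ n : Set S)) := hmS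
  have haT : aT.toIdeal = Ideal.span (⋃ n ∈ Set.Ioi (0 : ℤ), (toAG 𝒯 n : Set T)) :=
    irrel_toIdeal (toAG 𝒯)
  have hdimT : ringKrullDim T = ((r + s - 1 : ℕ) : WithBot ℕ∞) :=
    ringKrullDim_segre 𝒜 hposR h0R ℬ hposS h0S T 𝒯 ψ hT.1 hT.2 r s hr hs (by omega) (by omega)
  haveI : Module.Finite R (bun 𝒜 𝒜).carrier := Module.Finite.self R
  haveI : Module.Finite S (bun ℬ ℬ).carrier := Module.Finite.self S
  haveI : Module.Finite T (bun 𝒯 𝒯).carrier := Module.Finite.self T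
  -- vanishing for the factors
  have vR : ∀ (q : ℕ) (n : ℤ), q ≠ r → Van aR (bun 𝒜 𝒜) q n := by
    intro q n hq
    rcases lt_or_gt_of_ne hq with h | h
    · exact van_of_cm_field 𝒜 hposR h0R' aR haR r hr q h n
    · exact van_of_dim_lt (toAG 𝒜) aR (bun 𝒜 𝒜) r hr.le q h n
  have vS : ∀ (q : ℕ) (n : ℤ), q ≠ s → Van aS (bun ℬ ℬ) q n := by
    intro q n hq
    rcases lt_or_gt_of_ne hq with h | h
    · exact van_of_cm_field ℬ hposS h0S' aS haS s hs q h n
    · exact van_of_dim_lt (toAG ℬ) aS (bun ℬ ℬ) s hs.le q h n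
  -- abbreviations for the dimensions
  set fR : ℕ → ℤ → ℕ := fun q n => Module.finrank (GrLC.deg0 (toAG 𝒜)) (LCp aR (bun 𝒜 𝒜) q n)
    with hfR
  set fS : ℕ → ℤ → ℕ := fun q n => Module.finrank (GrLC.deg0 (toAG ℬ)) (LCp aS (bun ℬ ℬ) q n)
    with hfS
  set fT : ℕ → ℤ → ℕ := fun q n => Module.finrank (GrLC.deg0 (toAG 𝒯)) (LCp aT (bun 𝒯 𝒯) q n)
    with hfT
  set fA : ℤ → ℕ := fun n =>
    Module.finrank (GrLC.deg0 (toAG 𝒜)) ↥(GrLC.comp (toAG 𝒜) (bun 𝒜 𝒜).gr n) with hfA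
  set fB : ℤ → ℕ := fun n =>
    Module.finrank (GrLC.deg0 (toAG ℬ)) ↥(GrLC.comp (toAG ℬ) (bun ℬ ℬ).gr n) with hfB
  have fR_zero : ∀ (q : ℕ) (n : ℤ), q ≠ r → fR q n = 0 := fun q n hq =>
    finrank_lcp_eq_zero_of_van (toAG 𝒜) aR (bun 𝒜 𝒜) q n (vR q n hq)
  have fS_zero : ∀ (q : ℕ) (n : ℤ), q ≠ s → fS q n = 0 := fun q n hq =>
    finrank_lcp_eq_zero_of_van (toAG ℬ) aS (bun ℬ ℬ) q n (vS q n hq)
  -- the Künneth formula
  have kun : ∀ (q : ℕ) (n : ℤ), fT q n = fA n * fS q n + fR q n * fB n +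
      ∑ i ∈ Finset.range (q + 2), fR i n * fS (q + 1 - i) n := by
    intro q n
    have key := seg_kunneth_lcp ψ hT h0R' h0S' h0T' (bun 𝒜 𝒜) (bun ℬ ℬ) aR haR aS haS aT haT n
      (vR 0 n (by omega)) (vR 1 n (by omega)) (vS 0 n (by omega)) (vS 1 n (by omega)) q
    have hgr := segEquiv_gr 𝒜 ℬ ψ hT 𝒜 ℬ 𝒯 ψ.toLinearMap (isSegreMod_self ψ hT)
    have e1 := (piso_of_equiv aT (bun 𝒯 𝒯) (SegM ψ hT (bun 𝒜 𝒜) (bun ℬ ℬ))
      (segEquiv 𝒜 ℬ ψ hT 𝒜 ℬ 𝒯 ψ.toLinearMap (isSegreMod_self ψ hT)) hgr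
      (isGrHom_symm _ _ _ hgr) q n).finrank_eq
    exact e1.trans key
  -- the formula below the dimension
  have kun' : ∀ (q : ℕ) (n : ℤ), q < r + s - 1 → fT q n = fA n * fS q n + fR q n * fB n := by
    intro q n hq
    rw [kun q n, Nat.add_eq_left]
    apply Finset.sum_eq_zero
    intro i _
    by_cases hi : i = r
    · rw [fS_zero (q + 1 - i) n (by omega), mul_zero]
    · rw [fR_zero i n hi, zero_mul]
  -- translation of the conditions
  have cA : ∀ n : ℤ, fA n = 0 ↔ 𝒜 n = ⊥ := fun n => finrank_comp_eq_zero_iff 𝒜 fR0 n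
  have cB : ∀ n : ℤ, fB n = 0 ↔ ℬ n = ⊥ := fun n => finrank_comp_eq_zero_iff ℬ fS0 n
  have cR : ∀ (q : ℕ) (n : ℤ), fR q n = 0 ↔ I.Hcomp mR q n = ⊥ := fun q n =>
    ⟨fun h => (van_toAG_iff_hcomp 𝒜 𝒜 I mR q n).mp
        (van_of_finrank_lcp_eq_zero (toAG 𝒜) fR0 aR haR (bun 𝒜 𝒜) q n h),
      fun h => finrank_lcp_eq_zero_of_van (toAG 𝒜) aR (bun 𝒜 𝒜) q n
        ((van_toAG_iff_hcomp 𝒜 𝒜 I mR q n).mpr h)⟩
  have cS : ∀ (q : ℕ) (n : ℤ), fS q n = 0 ↔ J.Hcomp mS q n = ⊥ := fun q n =>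
    ⟨fun h => (van_toAG_iff_hcomp ℬ ℬ J mS q n).mp
        (van_of_finrank_lcp_eq_zero (toAG ℬ) fS0 aS haS (bun ℬ ℬ) q n h),
      fun h => finrank_lcp_eq_zero_of_van (toAG ℬ) aS (bun ℬ ℬ) q n
        ((van_toAG_iff_hcomp ℬ ℬ J mS q n).mpr h)⟩
  constructor
  · intro hCM
    haveI := hCM
    have vT : ∀ (q : ℕ) (n : ℤ), q < r + s - 1 → fT q n = 0 := fun q n hq =>
      finrank_lcp_eq_zero_of_van (toAG 𝒯) aT (bun 𝒯 𝒯) q n
        (van_of_cm_field 𝒯 hposT h0T' aT haT (r + s - 1) hdimT q hq n)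
    refine ⟨fun n => ?_, fun n => ?_⟩
    · have h1 := vT s n (by omega)
      rw [kun' s n (by omega), Nat.add_eq_zero_iff, Nat.mul_eq_zero] at h1
      rcases h1.1 with h | h
      · exact Or.inl ((cA n).mp h)
      · exact Or.inr ((cS s n).mp h)
    · have h1 := vT r n (by omega)
      rw [kun' r n (by omega), Nat.add_eq_zero_iff, Nat.mul_eq_zero, Nat.mul_eq_zero] at h1
      rcases h1.2 with h | h
      · exact Or.inl ((cR r n).mp h)
      · exact Or.inr ((cB n).mp h)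
  · rintro ⟨hA, hB⟩
    apply cm_of_van 𝒯 hposT h0T aT haT (r + s - 1) hdimT.le
    intro q hq n
    apply van_of_finrank_lcp_eq_zero (toAG 𝒯) fT0 aT haT (bun 𝒯 𝒯) q n
    show fT q n = 0
    rw [kun' q n hq, Nat.add_eq_zero_iff, Nat.mul_eq_zero, Nat.mul_eq_zero]
    constructor
    · by_cases hqs : q = s
      · subst hqs
        rcases hA n with h | h
        · exact Or.inl ((cA n).mpr h)
        · exact Or.inr ((cS q n).mpr h)
      · exact Or.inr (fS_zero q n hqs)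
    · by_cases hqr : q = r
      · subst hqr
        rcases hB n with h | h
        · exact Or.inl ((cR q n).mpr h)
        · exact Or.inr ((cB n).mpr h)
      · exact Or.inl (fR_zero q n hqr)

end Segre

end Groth.Agent.Lib.Helper6.SegCM
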