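import Mathlib
import Groth.Prelude.Def_GrLC
import Groth.Prelude.Def_GrSeg
import Groth.Prelude.Def_CAlg
import Groth.Agent.Lib.Helper6.CMReg.CRi
import Groth.Agent.Lib.Helper6.CMReg.CRw
import Groth.Agent.Lib.Helper6.SegCM.CMb

set_option autoImplicit false
set_option linter.unusedSectionVars false
set_option linter.unusedVariables false
set_option linter.unusedSimpArgs false
set_option linter.style.haveILetI false
set_option linter.overlappingInstances false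
set_option maxHeartbeats 800000

/-!
# The Cohen–Macaulay property of Segre products of standard graded algebras and `a`-invariants
(helper6)
-/

universe u

namespace Groth.Agent.Lib.Helper6.SegCM

open scoped TensorProduct
open CategoryTheory DirectSum Groth.Agent.Helper9.GrLCLib Groth.Agent.Helper9.GrLCLib.Trans
open Groth.Agent.Helper8.LC Groth.Agent.Helper9 Groth.Agent.Helper8
open Groth.Agent.Lib.Helper6.CMReg Groth.Agent.Lib.Helper6.SegK Groth.Agent.Lib.Helper6.SegDim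

section EndDeg

lemma lt_zero_iff_le_neg_one (x : WithBot (WithTop ℤ)) :
    x < 0 ↔ x ≤ (((-1 : ℤ) : WithTop ℤ) : WithBot (WithTop ℤ)) := by
  have h0 : (0 : WithBot (WithTop ℤ)) = (((0 : ℤ) : WithTop ℤ) : WithBot (WithTop ℤ)) := rfl
  rw [h0]
  induction x using WithBot.recBotCoe with
  | bot => exact ⟨fun _ => bot_le, fun _ => WithBot.bot_lt_coe _⟩
  | coe y =>
    rw [WithBot.coe_lt_coe, WithBot.coe_le_coe]
    induction y using WithTop.recTopCoe with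
    | top =>
      constructor
      · intro h
        exact absurd h (not_top_lt)
      · intro h
        exact absurd (top_le_iff.mp h) (WithTop.coe_ne_top)
    | coe m =>
      rw [WithTop.coe_lt_coe, WithTop.coe_le_coe]
      omega

lemma endDeg_lt_zero_iff {H : Type u} [AddCommGroup H] (𝒳 : ℤ → AddSubgroup H) :
    GrLC.endDeg 𝒳 < 0 ↔ ∀ n : ℤ, 0 ≤ n → 𝒳 n = ⊥ := by
  rw [lt_zero_iff_le_neg_one, endDeg_le_iff]
  constructor
  · intro h n hn
    exact h n (by omega)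
  · intro h n hn
    exact h n (by omega)

variable {R : Type u} [CommRing R] {σ : Type u} [SetLike σ R]
  [AddSubgroupClass σ R] (𝒜 : ℤ → σ) [GradedRing 𝒜]
variable {M : Type u} [AddCommGroup M] [Module R M] {τ : Type u} [SetLike τ M]
  [AddSubgroupClass τ M] (ℳ : ℤ → τ) [DirectSum.Decomposition ℳ] [SetLike.GradedSMul 𝒜 ℳ]

lemma hgr_eq_bot_iff (E : GrLC.StarInjRes 𝒜 ℳ) (a : HomogeneousIdeal 𝒜) (i : ℕ) (n : ℤ) :
    E.Hgr a i n = ⊥ ↔ E.Hcomp a i n = ⊥ := by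
  rw [AddSubgroup.eq_bot_iff_forall, Submodule.eq_bot_iff]
  exact Iff.rfl

lemma endDeg_hgr_lt_zero_iff (E : GrLC.StarInjRes 𝒜 ℳ) (a : HomogeneousIdeal 𝒜) (i : ℕ) :
    GrLC.endDeg (E.Hgr a i) < 0 ↔ ∀ n : ℤ, 0 ≤ n → E.Hcomp a i n = ⊥ := by
  rw [endDeg_lt_zero_iff]
  constructor
  · intro h n hn
    exact (hgr_eq_bot_iff 𝒜 ℳ E a i n).mp (h n hn)
  · intro h n hn
    exact (hgr_eq_bot_iff 𝒜 ℳ E a i n).mpr (h n hn)

end EndDeg

section Std

variable {k : Type u} [Field k] {R : Type u} [CommRing R] [Algebra k R]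
  (𝒜 : ℤ → Submodule k R) [GradedAlgebra 𝒜]

/-- the nonzero pieces of a standard graded Cohen–Macaulay algebra of positive dimension -/
theorem piece_eq_bot_iff [LocCoh.IsCohenMacaulayRing R] [Nontrivial R]
    (hpos : ∀ n : ℤ, n < 0 → 𝒜 n = ⊥) (h0 : 𝒜 0 = Submodule.span k {(1 : R)})
    (hstd : Ideal.span (⋃ n ∈ Set.Ioi (0 : ℤ), (𝒜 n : Set R)) =
      Ideal.span ((𝒜 1 : Submodule k R) : Set R))
    (h1 : 1 ≤ ringKrullDim R) (n : ℤ) : 𝒜 n = ⊥ ↔ n < 0 := by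
  refine ⟨fun h => ?_, hpos n⟩
  by_contra hn
  rw [not_lt] at hn
  have h0f := isField_deg0 𝒜 (h0_of_span h0)
  have hstd' : Ideal.span (⋃ n ∈ Set.Ioi (0 : ℤ), (toAG 𝒜 n : Set R)) =
      Ideal.span ((toAG 𝒜 1 : AddSubgroup R) : Set R) := hstd
  have key : ∀ m : ℕ, Module.finrank (GrLC.deg0 (toAG 𝒜))
      (GrLC.comp (toAG 𝒜) (toAG 𝒜) (m : ℤ)) ≠ 0 := by
    intro m
    induction m with
    | zero =>
      intro h2
      have h3 := (finrank_comp_eq_zero_iff 𝒜 h0f 0).mp h2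
      have h4 : (1 : R) ∈ 𝒜 0 := SetLike.GradedOne.one_mem
      rw [h3, Submodule.mem_bot] at h4
      exact one_ne_zero h4
    | succ m ih =>
      have h2 := main_18654 R (toAG 𝒜) (toAG_eq_bot 𝒜 hpos) h0f hstd' h1 (m : ℤ)
      have e1 : ((m + 1 : ℕ) : ℤ) = (m : ℤ) + 1 := by push_cast; ring
      rw [e1]
      omega
  obtain ⟨m, rfl⟩ := Int.eq_ofNat_of_zero_le hn
  exact key m ((finrank_comp_eq_zero_iff 𝒜 h0f (m : ℤ)).mpr h)

end Std

section Segre

variable {k : Type u} [Field k] {R S T : Type u} [CommRing R] [CommRing S] [CommRing T]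
  [Algebra k R] [Algebra k S] [Algebra k T]
  (𝒜 : ℤ → Submodule k R) (ℬ : ℤ → Submodule k S) (𝒯 : ℤ → Submodule k T)
  [GradedAlgebra 𝒜] [GradedAlgebra ℬ] [GradedAlgebra 𝒯]
  (ψ : T →ₐ[k] R ⊗[k] S) (hT : GrSeg.IsSegreRing 𝒜 ℬ 𝒯 ψ)

include hT in
/-- **the Segre product of standard graded Cohen–Macaulay algebras of dimensions at least two is
Cohen–Macaulay exactly when both `a`-invariants are negative** -/
theorem segre_cm_iff_endDeg (hposR : ∀ n : ℤ, n < 0 → 𝒜 n = ⊥)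
    (h0R : 𝒜 0 = Submodule.span k {(1 : R)}) [Algebra.FiniteType k R]
    (hposS : ∀ n : ℤ, n < 0 → ℬ n = ⊥) (h0S : ℬ 0 = Submodule.span k {(1 : S)})
    [Algebra.FiniteType k S]
    [LocCoh.IsCohenMacaulayRing R] [LocCoh.IsCohenMacaulayRing S]
    (mR : HomogeneousIdeal 𝒜)
    (hmR : mR.toIdeal = Ideal.span (⋃ n ∈ Set.Ioi (0 : ℤ), (𝒜 n : Set R)))
    (hstdR : Ideal.span (⋃ n ∈ Set.Ioi (0 : ℤ), (𝒜 n : Set R)) =
      Ideal.span ((𝒜 1 : Submodule k R) : Set R))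
    (I : GrLC.StarInjRes 𝒜 𝒜) (mS : HomogeneousIdeal ℬ)
    (hmS : mS.toIdeal = Ideal.span (⋃ n ∈ Set.Ioi (0 : ℤ), (ℬ n : Set S)))
    (hstdS : Ideal.span (⋃ n ∈ Set.Ioi (0 : ℤ), (ℬ n : Set S)) =
      Ideal.span ((ℬ 1 : Submodule k S) : Set S))
    (J : GrLC.StarInjRes ℬ ℬ) (r s : ℕ) (hr : ringKrullDim R = r) (hs : ringKrullDim S = s)
    (h2r : 2 ≤ r) (h2s : 2 ≤ s) :
    LocCoh.IsCohenMacaulayRing T ↔
      GrLC.endDeg (I.Hgr mR r) < 0 ∧ GrLC.endDeg (J.Hgr mS s) < 0 := by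
  haveI : Nontrivial R := nontrivial_of_dim hr
  haveI : Nontrivial S := nontrivial_of_dim hs
  have h1R : 1 ≤ ringKrullDim R := by
    rw [hr]
    exact_mod_cast (by omega : 1 ≤ r)
  have h1S : 1 ≤ ringKrullDim S := by
    rw [hs]
    exact_mod_cast (by omega : 1 ≤ s)
  have hA : ∀ n : ℤ, 𝒜 n = ⊥ ↔ n < 0 := piece_eq_bot_iff 𝒜 hposR h0R hstdR h1R
  have hB : ∀ n : ℤ, ℬ n = ⊥ ↔ n < 0 := piece_eq_bot_iff ℬ hposS h0S hstdS h1S
  rw [segre_cm_iff 𝒜 ℬ 𝒯 ψ hT hposR h0R hposS h0S mR hmR I mS hmS J r s hr hs h2r h2s,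
    endDeg_hgr_lt_zero_iff, endDeg_hgr_lt_zero_iff]
  constructor
  · rintro ⟨h1, h2⟩
    refine ⟨fun n hn => ?_, fun n hn => ?_⟩
    · rcases h2 n with h | h
      · exact h
      · exact absurd ((hB n).mp h) (by omega)
    · rcases h1 n with h | h
      · exact absurd ((hA n).mp h) (by omega)
      · exact h
  · rintro ⟨h1, h2⟩
    refine ⟨fun n => ?_, fun n => ?_⟩
    · by_cases hn : n < 0
      · exact Or.inl ((hA n).mpr hn)
      · exact Or.inr (h2 n (by omega))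
    · by_cases hn : n < 0
      · exact Or.inr ((hB n).mpr hn)
      · exact Or.inl (h1 n (by omega))

end Segre

end Groth.Agent.Lib.Helper6.SegCM
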