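import Mathlib
import Groth.Prelude.Def_GrLC
import Groth.Prelude.Def_GrSeg
import Groth.Prelude.Def_CAlg
import Groth.Agent.Lib.Helper3.Segre
import Groth.Agent.Lib.Helper6.SegDim.SDf
import Groth.Agent.Lib.Helper6.SegK.SKs
import Groth.Agent.Lib.Helper6.SegCM.CMb

set_option autoImplicit false
set_option linter.unusedSectionVars false
set_option linter.unusedVariables false
set_option linter.unusedSimpArgs false
set_option linter.style.haveILetI false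
set_option linter.overlappingInstances false
set_option maxHeartbeats 800000

/-!
# The Cohen–Macaulay property of Segre products with a factor of dimension one (helper6)
-/

universe u

namespace Groth.Agent.Lib.Helper6.SegCM

open scoped TensorProduct
open CategoryTheory DirectSum Groth.Agent.Helper9.GrLCLib Groth.Agent.Helper9.GrLCLib.Trans
open Groth.Agent.Helper8.LC Groth.Agent.Helper9 Groth.Agent.Helper8
open Groth.Agent.Lib.Helper6.CMReg Groth.Agent.Lib.Helper6.SegK Groth.Agent.Lib.Helper6.SegDim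
open Groth.Agent.Helper9.SegreLib

section Segre

variable {k : Type u} [Field k] {R S T : Type u} [CommRing R] [CommRing S] [CommRing T]
  [Algebra k R] [Algebra k S] [Algebra k T]
  (𝒜 : ℤ → Submodule k R) (ℬ : ℤ → Submodule k S) (𝒯 : ℤ → Submodule k T)
  [GradedAlgebra 𝒜] [GradedAlgebra ℬ] [GradedAlgebra 𝒯]
  (ψ : T →ₐ[k] R ⊗[k] S) (hT : GrSeg.IsSegreRing 𝒜 ℬ 𝒯 ψ)

include hT in
/-- **the Cohen–Macaulay property of the Segre product of a Cohen–Macaulay graded algebra of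
dimension one with a Cohen–Macaulay graded algebra of dimension `s ≥ 1`** -/
theorem segre_cm_dim_one (hposR : ∀ n : ℤ, n < 0 → 𝒜 n = ⊥)
    (h0R : 𝒜 0 = Submodule.span k {(1 : R)}) [Algebra.FiniteType k R]
    (hposS : ∀ n : ℤ, n < 0 → ℬ n = ⊥) (h0S : ℬ 0 = Submodule.span k {(1 : S)})
    [Algebra.FiniteType k S]
    [LocCoh.IsCohenMacaulayRing R] [LocCoh.IsCohenMacaulayRing S]
    (mR : HomogeneousIdeal 𝒜)
    (hmR : mR.toIdeal = Ideal.span (⋃ n ∈ Set.Ioi (0 : ℤ), (𝒜 n : Set R)))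
    (I : GrLC.StarInjRes 𝒜 𝒜) (hr : ringKrullDim R = 1) (s : ℕ) (hs : ringKrullDim S = s)
    (h1s : 1 ≤ s) :
    (2 ≤ s → (LocCoh.IsCohenMacaulayRing T ↔ ∀ n : ℤ, I.Hcomp mR 1 n = ⊥ ∨ ℬ n = ⊥)) ∧
      (s = 1 → LocCoh.IsCohenMacaulayRing T) := by
  classical
  have hr' : ringKrullDim R = ((1 : ℕ) : WithBot ℕ∞) := by rw [hr, Nat.cast_one]
  haveI : Nontrivial R := nontrivial_of_dim hr'
  haveI : Nontrivial S := nontrivial_of_dim hs
  haveI : IsNoetherianRing T :=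
    Groth.Agent.Helper3.Segre.isNoetherianRing_of_segre 𝒜 ℬ 𝒯 ψ hT.2 hT.1
  haveI : Nontrivial T := nontrivial_of_segre ψ
  have hposT := segre_pos 𝒜 ℬ 𝒯 ψ hT hposR
  have h0T := segre_zero 𝒜 ℬ 𝒯 ψ hT h0R h0S
  haveI : Algebra.FiniteType k T := finiteType_of_noeth hposT h0T
  have h0R' := h0_of_span h0R
  have h0S' := h0_of_span h0S
  have h0T' := h0T_of_segre ψ hT h0R h0S
  have fT0 := isField_deg0 𝒯 h0T'
  have hinjR : Function.Injective (algebraMap k R) := (algebraMap k R).injective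
  have hinjS : Function.Injective (algebraMap k S) := (algebraMap k S).injective
  have hinjT : Function.Injective (algebraMap k T) := (algebraMap k T).injective
  -- the irrelevant ideals
  let aR := idealToAG 𝒜 mR
  let aS : HomogeneousIdeal (toAG ℬ) := GrSyz.irrel (toAG ℬ)
  let aT : HomogeneousIdeal (toAG 𝒯) := GrSyz.irrel (toAG 𝒯)
  have haR : aR.toIdeal = Ideal.span (⋃ n ∈ Set.Ioi (0 : ℤ), (toAG 𝒜 n : Set R)) := hmR
  have haS : aS.toIdeal = Ideal.span (⋃ n ∈ Set.Ioi (0 : ℤ), (toAG ℬ n : Set S)) :=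
    irrel_toIdeal (toAG ℬ)
  have haT : aT.toIdeal = Ideal.span (⋃ n ∈ Set.Ioi (0 : ℤ), (toAG 𝒯 n : Set T)) :=
    irrel_toIdeal (toAG 𝒯)
  have hdimT0 : ringKrullDim T = ((1 + s - 1 : ℕ) : WithBot ℕ∞) :=
    ringKrullDim_segre 𝒜 hposR h0R ℬ hposS h0S T 𝒯 ψ hT.1 hT.2 1 s hr' hs le_rfl h1s
  have hdimT : ringKrullDim T = (s : WithBot ℕ∞) := by
    rw [hdimT0, Nat.add_sub_cancel_left]
  haveI : Module.Finite R (bun 𝒜 𝒜).carrier := Module.Finite.self R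
  haveI : Module.Finite S (bun ℬ ℬ).carrier := Module.Finite.self S
  haveI : Module.Finite T (bun 𝒯 𝒯).carrier := Module.Finite.self T
  haveI : Module.Finite T (SegM ψ hT (bun 𝒜 𝒜) (bun ℬ ℬ)).carrier :=
    Module.Finite.equiv (segEquiv 𝒜 ℬ ψ hT 𝒜 ℬ 𝒯 ψ.toLinearMap (isSegreMod_self ψ hT))
  -- vanishing for the factors
  have vR : ∀ (q : ℕ) (n : ℤ), q ≠ 1 → Van aR (bun 𝒜 𝒜) q n := by
    intro q n hq
    rcases lt_or_gt_of_ne hq with h | h
    · exact van_of_cm_field 𝒜 hposR h0R' aR haR 1 hr' q h n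
    · exact van_of_dim_lt (toAG 𝒜) aR (bun 𝒜 𝒜) 1 hr'.le q h n
  have vS : ∀ (q : ℕ) (n : ℤ), q ≠ s → Van aS (bun ℬ ℬ) q n := by
    intro q n hq
    rcases lt_or_gt_of_ne hq with h | h
    · exact van_of_cm_field ℬ hposS h0S' aS haS s hs q h n
    · exact van_of_dim_lt (toAG ℬ) aS (bun ℬ ℬ) s hs.le q h n
  -- the Čech complexes
  obtain ⟨xs, hxs1, hxs2⟩ := exists_list_gens_pos aR haR
  obtain ⟨ys, hys1, hys2⟩ := exists_list_gens_pos aS haS
  obtain ⟨KM⟩ := CPack.nonempty_cpack (bun 𝒜 𝒜) xs hxs1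
  obtain ⟨KN⟩ := CPack.nonempty_cpack (bun ℬ ℬ) ys hys1
  have haR' : aR.toIdeal ≤ Ideal.span {y | y ∈ xs} := hxs2.le
  have haS' : aS.toIdeal ≤ Ideal.span {y | y ∈ ys} := hys2.le
  have hposR' : ∀ e : ℤ, 0 < e → ∀ x ∈ toAG 𝒜 e, x ∈ aR.toIdeal := by
    intro e he x hx
    rw [haR]
    exact Ideal.subset_span (Set.mem_iUnion₂.mpr ⟨e, he, hx⟩)
  have hposS' : ∀ e : ℤ, 0 < e → ∀ x ∈ toAG ℬ e, x ∈ aS.toIdeal := by
    intro e he x hx
    rw [haS]
    exact Ideal.subset_span (Set.mem_iUnion₂.mpr ⟨e, he, hx⟩)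
  have hposT' : ∀ e : ℤ, 0 < e → ∀ x ∈ toAG 𝒯 e, x ∈ aT.toIdeal := by
    intro e he x hx
    rw [haT]
    exact Ideal.subset_span (Set.mem_iUnion₂.mpr ⟨e, he, hx⟩)
  have hxs : ∀ e : ℤ, 0 < e → ∀ x ∈ toAG 𝒜 e, x ∈ Ideal.span {y | y ∈ xs} :=
    fun e he x hx => haR' (hposR' e he x hx)
  have hys : ∀ e : ℤ, 0 < e → ∀ x ∈ toAG ℬ e, x ∈ Ideal.span {y | y ∈ ys} :=
    fun e he x hx => haS' (hposS' e he x hx)
  have haG : aT.toIdeal ≤
      Ideal.span {t : T | ∃ e : ℤ, 0 < e ∧ ∃ x ∈ 𝒜 e, ∃ y ∈ ℬ e, ψ t = x ⊗ₜ[k] y} := by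
    rw [haT]
    exact irrelevant_le_span ψ hT
  -- transfer between the abstract and the concrete Segre product
  have hgr := segEquiv_gr 𝒜 ℬ ψ hT 𝒜 ℬ 𝒯 ψ.toLinearMap (isSegreMod_self ψ hT)
  have toT : ∀ (q : ℕ) (n : ℤ), Van aT (SegM ψ hT (bun 𝒜 𝒜) (bun ℬ ℬ)) q n →
      Van aT (bun 𝒯 𝒯) q n := fun q n h =>
    van_of_equiv aT (SegM ψ hT (bun 𝒜 𝒜) (bun ℬ ℬ)) (bun 𝒯 𝒯)
      (segEquiv 𝒜 ℬ ψ hT 𝒜 ℬ 𝒯 ψ.toLinearMap (isSegreMod_self ψ hT)).symm
      (fun g x hx => hgr g x hx) q n h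
  have fromT : ∀ (q : ℕ) (n : ℤ), Van aT (bun 𝒯 𝒯) q n →
      Van aT (SegM ψ hT (bun 𝒜 𝒜) (bun ℬ ℬ)) q n := fun q n h =>
    van_of_equiv aT (bun 𝒯 𝒯) (SegM ψ hT (bun 𝒜 𝒜) (bun ℬ ℬ))
      (segEquiv 𝒜 ℬ ψ hT 𝒜 ℬ 𝒯 ψ.toLinearMap (isSegreMod_self ψ hT))
      (isGrHom_symm _ _ _ hgr) q n h
  -- the Čech form of the vanishing
  have H0M := fun n : ℤ => KM.H0_of_van aR haR' hposR' n (vR 0 n (by omega))
  have H0N := fun n : ℤ => KN.H0_of_van aS haS' hposS' n (vS 0 n (by omega))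
  have vT0 : ∀ n : ℤ, Van aT (bun 𝒯 𝒯) 0 n := fun n =>
    toT 0 n (seg_van_zero ψ hT KM KN hxs hys aT haG hposT' n (H0M n) (H0N n))
  refine ⟨fun h2s => ⟨fun hCM n => ?_, fun hcond => ?_⟩, fun hs1 => ?_⟩
  · -- necessity
    haveI := hCM
    by_cases hB : ℬ n = ⊥
    · exact Or.inr hB
    · left
      obtain ⟨v0, hv0, hv0ne⟩ := Submodule.exists_mem_ne_zero_of_ne_bot hB
      have hvT : Van aT (bun 𝒯 𝒯) 1 n :=
        van_of_cm_field 𝒯 hposT h0T' aT haT s hdimT 1 (by omega) n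
      have hvS := fromT 1 n hvT
      have hw0d : KN.φ (ofM ℬ ℬ v0) ∈ KN.T.gr n := KN.φ_gr n _ hv0
      have hw0p : KN.p 0 (KN.φ (ofM ℬ ℬ v0)) = KN.φ (ofM ℬ ℬ v0) := KN.p0_φ _
      have hw0ne : KN.φ (ofM ℬ ℬ v0) ≠ 0 := fun h =>
        hv0ne (KN.φ_inj (h.trans (map_zero KN.φ).symm))
      have H1M : ∀ u : KM.T.carrier, u ∈ KM.T.gr n → KM.p 1 u = u → KM.D u = 0 →
          ∃ u0 : KM.T.carrier, u0 ∈ KM.T.gr n ∧ KM.p 0 u0 = u0 ∧ KM.D u0 = u :=
        fun u hud hup huD => seg_H1_of_van_one ψ hT KM KN hxs hys aT haG hposT' n hvS (H0N n)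
          _ hw0d hw0p hw0ne u hud hup huD
      have hvR : Van aR (bun 𝒜 𝒜) 1 n := KM.van_one_of_H1 aR haR' hposR' n H1M
      exact (van_toAG_iff_hcomp 𝒜 𝒜 I mR 1 n).mp hvR
  · -- sufficiency
    apply cm_of_van 𝒯 hposT h0T aT haT s hdimT.le
    intro q hq n
    rcases q with _ | _ | q'
    · exact vT0 n
    · have H1N := KN.H1_of_van aS haS' hposS' n (vS 1 n (by omega))
      rcases hcond n with h | h
      · have hvR : Van aR (bun 𝒜 𝒜) 1 n := (van_toAG_iff_hcomp 𝒜 𝒜 I mR 1 n).mpr h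
        have H1M := KM.H1_of_van aR haR' hposR' n hvR
        exact toT 1 n (seg_van_one ψ hT KM KN hxs hys aT haG hposT' n H1M H1N)
      · have hX : ∀ x : (bun ℬ ℬ).carrier, x ∈ (bun ℬ ℬ).gr n → x = 0 := by
          intro x hx
          have hx' : toM ℬ ℬ x ∈ ℬ n := hx
          rw [h, Submodule.mem_bot] at hx'
          exact hx'
        have ZN := KN.Z1_zero n hX H1N
        exact toT 1 n (seg_van_one_of_Z1 ψ hT KM KN hxs hys aT haG hposT' n ZN)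
    · apply toT
      apply van_of_finrank_lcp_eq_zero (toAG 𝒯) fT0 aT haT
      apply seg_finrank_zero_of_subsingleton ψ hT KM KN hxs hys aT haG hposT' n q' h0T' hinjT
      intro x hx
      have hsum : x.1 + x.2 = q' + 3 := Finset.HasAntidiagonal.mem_antidiagonal.mp hx
      by_cases hx0 : x.1 = 0
      · left
        rw [hx0]
        exact KM.subsingleton_ddgs_Hq_zero n
      · by_cases hx1 : x.1 = 1
        · right
          have hx2 : x.2 = q' + 2 := by omega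
          rw [hx2]
          exact KN.subsingleton_ddgs_Hq_of_van aS haS' hposS' n q' h0S' hinjS
            (vS (q' + 2) n (by omega))
        · left
          obtain ⟨i, hi⟩ : ∃ i, x.1 = i + 2 := ⟨x.1 - 2, by omega⟩
          rw [hi]
          exact KM.subsingleton_ddgs_Hq_of_van aR haR' hposR' n i h0R' hinjR
            (vR (i + 2) n (by omega))
  · -- dimension one
    subst hs1
    apply cm_of_van 𝒯 hposT h0T aT haT 1 hdimT.le
    intro q hq n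
    have hq0 : q = 0 := by omega
    subst hq0
    exact vT0 n

end Segre

end Groth.Agent.Lib.Helper6.SegCM
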