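import Mathlib
import Groth.Prelude.Def_GrLC
import Groth.Prelude.Def_GrSeg
import Groth.Prelude.Def_CAlg
import Groth.Agent.Lib.Helper3.Segre
import Groth.Agent.Lib.Helper9.GrLC.Van
import Groth.Agent.Lib.Helper6.CMReg.CRj
import Groth.Agent.Lib.Helper6.SegDim.SDf
import Groth.Agent.Lib.Helper6.SegK.SKs
import Groth.Agent.Lib.Helper6.SegCM.CMc
import Groth.Agent.Lib.Helper6.SegCM.CMe

set_option autoImplicit false
set_option linter.unusedSectionVars false
set_option linter.unusedVariables false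
set_option linter.unusedSimpArgs false
set_option linter.style.haveILetI false
set_option linter.overlappingInstances false
set_option maxHeartbeats 800000

/-!
# Segre products with a standard graded factor of dimension one: the polynomial ring criterion
(helper6)
-/

universe u

namespace Groth.Agent.Lib.Helper6.SegCM

open scoped TensorProduct Polynomial
open CategoryTheory DirectSum Groth.Agent.Helper9.GrLCLib Groth.Agent.Helper9.GrLCLib.Trans
open Groth.Agent.Helper8.LC Groth.Agent.Helper9 Groth.Agent.Helper8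
open Groth.Agent.Lib.Helper6.CMReg Groth.Agent.Lib.Helper6.SegK Groth.Agent.Lib.Helper6.SegDim
open Groth.Agent.Helper9.SegreLib

section Dim

/-- the Krull dimension of a nontrivial algebra of finite type over a field is a natural number -/
lemma exists_nat_dim {k : Type u} [Field k] (A : Type u) [CommRing A] [Algebra k A]
    [Algebra.FiniteType k A] [Nontrivial A] : ∃ r : ℕ, ringKrullDim A = r := by
  obtain ⟨N, f, hf⟩ := Algebra.FiniteType.iff_quotient_mvPolynomial''.1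
    (inferInstance : Algebra.FiniteType k A)
  have h1 : ringKrullDim A ≤ N := by
    have := ringKrullDim_le_of_surjective f.toRingHom hf
    rw [MvPolynomial.ringKrullDim_of_isNoetherianRing, ringKrullDim_eq_zero_of_field, zero_add,
      Nat.card_fin] at this
    exact this
  have h2 : 0 ≤ ringKrullDim A := ringKrullDim_nonneg_of_nontrivial
  have h3 : ringKrullDim A ≠ ⊥ := fun hb => by
    rw [hb] at h2
    exact absurd h2 (by simp)
  obtain ⟨y, hy⟩ := WithBot.ne_bot_iff_exists.1 h3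
  have h4 : y ≠ ⊤ := by
    rintro rfl
    rw [← hy] at h1
    exact absurd h1 (by
      rw [not_le]
      exact WithBot.coe_lt_coe.2 (ENat.natCast_lt_top N))
  obtain ⟨r, hr⟩ := ENat.ne_top_iff_exists.1 h4
  exact ⟨r, by rw [← hy, ← hr]; rfl⟩

end Dim

section Poly

variable {k : Type u} [Field k] {R : Type u} [CommRing R] [Algebra k R]
  {𝒜 : ℤ → Submodule k R} [GradedAlgebra 𝒜]

lemma proj_mem_piece (n : ℤ) (b : R) : GradedAlgebra.proj 𝒜 n b ∈ 𝒜 n := by
  rw [GradedAlgebra.proj_apply]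
  exact (DirectSum.decompose 𝒜 b n).2

/-- the pieces of a graded algebra whose irrelevant ideal is generated by one linear form -/
lemma piece_le_span_pow (h0 : 𝒜 0 = Submodule.span k {(1 : R)}) {y : R} (hy : y ∈ 𝒜 1)
    (hirr : irr 𝒜 = Ideal.span {y}) (n : ℕ) : 𝒜 (n : ℤ) ≤ Submodule.span k {y ^ n} := by
  induction n with
  | zero =>
    intro a ha
    rw [Nat.cast_zero, h0] at ha
    rwa [pow_zero]
  | succ n ih =>
    intro a ha
    have ha' : a ∈ 𝒜 ((n : ℤ) + 1) := by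
      have e : ((n + 1 : ℕ) : ℤ) = (n : ℤ) + 1 := by push_cast; ring
      rw [← e]
      exact ha
    have h1 : a ∈ irr 𝒜 := mem_irr_of_isPosHom ⟨(n : ℤ) + 1, by omega, ha'⟩
    rw [hirr] at h1
    obtain ⟨b, hb⟩ := Ideal.mem_span_singleton'.mp h1
    have h2 : GradedAlgebra.proj 𝒜 ((n : ℤ) + 1) (b * y) = GradedAlgebra.proj 𝒜 (n : ℤ) b * y :=
      proj_mul_of_mem hy (n : ℤ) b
    rw [hb, proj_of_mem ha'] at h2
    obtain ⟨c, hc⟩ := Submodule.mem_span_singleton.mp (ih (proj_mem_piece (n : ℤ) b))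
    rw [Submodule.mem_span_singleton]
    refine ⟨c, ?_⟩
    rw [h2, ← hc, pow_succ, smul_mul_assoc]

/-- the irrelevant ideal of a standard graded algebra whose linear forms are the multiples of one
of them -/
lemma irr_eq_span_of_le (hstd : Ideal.span (⋃ n ∈ Set.Ioi (0 : ℤ), (𝒜 n : Set R)) =
      Ideal.span ((𝒜 1 : Submodule k R) : Set R)) {y : R} (hy : y ∈ 𝒜 1)
    (hle : 𝒜 1 ≤ Submodule.span k {y}) : irr 𝒜 = Ideal.span {y} := by
  have h1 : irr 𝒜 = Ideal.span ((𝒜 1 : Submodule k R) : Set R) := hstd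
  rw [h1]
  apply le_antisymm
  · rw [Ideal.span_le]
    intro a ha
    obtain ⟨c, rfl⟩ := Submodule.mem_span_singleton.mp (hle ha)
    show c • y ∈ Ideal.span {y}
    rw [Algebra.smul_def]
    exact Ideal.mul_mem_left _ _ (Ideal.subset_span rfl)
  · rw [Ideal.span_le, Set.singleton_subset_iff]
    exact Ideal.subset_span hy

/-- the linear part of a product with an element of the irrelevant ideal -/
lemma proj_one_mul (hpos : ∀ n : ℤ, n < 0 → 𝒜 n = ⊥) {f : R}
    (hf0 : GradedAlgebra.proj 𝒜 0 f = 0) (b : R) :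
    GradedAlgebra.proj 𝒜 1 (b * f) =
      GradedAlgebra.proj 𝒜 0 b * GradedAlgebra.proj 𝒜 1 f := by
  classical
  have hsum : b * f =
      ∑ j ∈ (DirectSum.decompose 𝒜 f).support, b * (DirectSum.decompose 𝒜 f j : R) := by
    rw [← Finset.mul_sum, DirectSum.sum_support_decompose 𝒜 f]
  rw [hsum, map_sum, Finset.sum_eq_single (1 : ℤ)]
  · have h1 := proj_mul_of_mem (DirectSum.decompose 𝒜 f 1).2 0 b
    rw [zero_add] at h1
    rw [h1, GradedAlgebra.proj_apply 𝒜 1 f]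
  · intro j _ hj
    have h1 := proj_mul_of_mem (DirectSum.decompose 𝒜 f j).2 (1 - j) b
    rw [sub_add_cancel] at h1
    rw [h1]
    rcases lt_trichotomy j 0 with hj0 | hj0 | hj0
    · rw [eq_zero_of_mem_neg hpos hj0 (DirectSum.decompose 𝒜 f j).2, mul_zero]
    · subst hj0
      have h2 : ((DirectSum.decompose 𝒜 f 0 : 𝒜 0) : R) = 0 := hf0
      rw [h2, mul_zero]
    · rw [eq_zero_of_mem_neg hpos (by omega) (proj_mem_piece (1 - j) b), zero_mul]
  · intro h1
    rw [DFinsupp.notMem_support_iff] at h1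
    rw [h1, ZeroMemClass.coe_zero, mul_zero, map_zero]

/-- a graded algebra whose irrelevant ideal is generated by one linear form which is not nilpotent
is a polynomial ring -/
theorem nonempty_algEquiv_polynomial (hpos : ∀ n : ℤ, n < 0 → 𝒜 n = ⊥)
    (h0 : 𝒜 0 = Submodule.span k {(1 : R)}) {y : R} (hy : y ∈ 𝒜 1)
    (hirr : irr 𝒜 = Ideal.span {y}) (hne : ∀ n : ℕ, y ^ n ≠ 0) :
    Nonempty (R ≃ₐ[k] k[X]) := by
  classical
  have hpow : ∀ n : ℕ, y ^ n ∈ 𝒜 (n : ℤ) := by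
    intro n
    have h1 := SetLike.pow_mem_graded n hy
    rwa [nsmul_eq_mul, mul_one] at h1
  have hcoef : ∀ (p : k[X]) (n : ℕ),
      GradedAlgebra.proj 𝒜 (n : ℤ) (Polynomial.aeval y p) = p.coeff n • y ^ n := by
    intro p n
    rw [Polynomial.aeval_eq_sum_range, map_sum, Finset.sum_eq_single n]
    · rw [map_smul, proj_of_mem (hpow n)]
    · intro m _ hmn
      rw [map_smul, proj_of_mem_ne (hpow m) (by exact_mod_cast hmn), smul_zero]
    · intro hn
      have h1 : p.coeff n = 0 := by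
        apply Polynomial.coeff_eq_zero_of_natDegree_lt
        rw [Finset.mem_range] at hn
        omega
      rw [h1, zero_smul, map_zero]
  have hinj : Function.Injective (Polynomial.aeval (R := k) y) := by
    rw [injective_iff_map_eq_zero]
    intro p hp
    ext n
    have h1 := hcoef p n
    rw [hp, map_zero] at h1
    rw [Polynomial.coeff_zero]
    exact (smul_eq_zero.mp h1.symm).resolve_right (hne n)
  have hsurj : Function.Surjective (Polynomial.aeval (R := k) y) := by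
    intro a
    have hmem : ∀ (i : ℤ) (b : R), b ∈ 𝒜 i → b ∈ (Polynomial.aeval (R := k) y).range := by
      intro i b hb
      rcases lt_or_ge i 0 with hi | hi
      · rw [eq_zero_of_mem_neg hpos hi hb]
        exact Subalgebra.zero_mem _
      · obtain ⟨n, rfl⟩ := Int.eq_ofNat_of_zero_le hi
        obtain ⟨c, hc⟩ := Submodule.mem_span_singleton.mp (piece_le_span_pow h0 hy hirr n hb)
        rw [← hc]
        refine Subalgebra.smul_mem _ ?_ c
        refine Subalgebra.pow_mem _ ?_ n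
        exact (AlgHom.mem_range _).mpr ⟨Polynomial.X, Polynomial.aeval_X y⟩
    have h1 : a ∈ (Polynomial.aeval (R := k) y).range := by
      rw [← DirectSum.sum_support_decompose 𝒜 a]
      exact Subalgebra.sum_mem _ (fun i _ => hmem i _ (DirectSum.decompose 𝒜 a i).2)
    exact (AlgHom.mem_range _).mp h1
  exact ⟨(AlgEquiv.ofBijective (Polynomial.aeval (R := k) y) ⟨hinj, hsurj⟩).symm⟩

end Poly

section Height

variable {k : Type u} [Field k] {R : Type u} [CommRing R] [Algebra k R]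
  {𝒜 : ℤ → Submodule k R} [GradedAlgebra 𝒜]

/-- in dimension one, every prime containing a homogeneous nonzerodivisor contains the irrelevant
ideal -/
theorem irr_le_of_prime_of_regular [IsNoetherianRing R] [Nontrivial R]
    (hpos : ∀ n : ℤ, n < 0 → 𝒜 n = ⊥) (h0 : 𝒜 0 = Submodule.span k {(1 : R)})
    (hr : ringKrullDim R = 1) {x : R} {e : ℤ} (hx : x ∈ 𝒜 e) (hreg : IsSMulRegular R x)
    (P : Ideal R) [hP : P.IsPrime] (hxP : x ∈ P) : irr 𝒜 ≤ P := by
  haveI hQprime : (P.homogeneousCore 𝒜).toIdeal.IsPrime := hP.homogeneousCore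
  have hxQ : x ∈ (P.homogeneousCore 𝒜).toIdeal :=
    Ideal.mem_homogeneousCore_of_homogeneous_of_mem ⟨e, hx⟩ hxP
  have hQle : (P.homogeneousCore 𝒜).toIdeal ≤ irr 𝒜 :=
    le_irr_of_isHomogeneous hpos h0 (P.homogeneousCore 𝒜).isHomogeneous hQprime.ne_top
  have hnzd : x ∈ nonZeroDivisors R := by
    rw [mem_nonZeroDivisors_iff_right]
    intro z hz
    apply hreg
    show x • z = x • (0 : R)
    rw [smul_zero, smul_eq_mul, mul_comm]
    exact hz
  have h1 : (1 : ℕ∞) ≤ (P.homogeneousCore 𝒜).toIdeal.height :=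
    (Ideal.one_le_height_span_singleton_of_mem_nonZeroDivisors hnzd).trans
      (Ideal.height_mono ((Ideal.span_singleton_le_iff_mem _).mpr hxQ))
  have heq : (P.homogeneousCore 𝒜).toIdeal = irr 𝒜 := by
    by_contra hne
    have hlt : (P.homogeneousCore 𝒜).toIdeal < irr 𝒜 := lt_of_le_of_ne hQle hne
    have h2 : (P.homogeneousCore 𝒜).toIdeal.height < (irr 𝒜).height :=
      Ideal.height_strict_mono_of_isPrime hlt
    have h3 : ((irr 𝒜).height : WithBot ℕ∞) ≤ ringKrullDim R :=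
      Ideal.height_le_ringKrullDim_of_ne_top (irr_ne_top hpos)
    rw [hr] at h3
    have h4 : (irr 𝒜).height ≤ 1 := by exact_mod_cast h3
    exact absurd (h1.trans_lt (h2.trans_le h4)) (lt_irrefl _)
  rw [← heq]
  exact Ideal.toIdeal_homogeneousCore_le 𝒜 P

/-- in dimension one, a power of the irrelevant ideal lies in the ideal generated by a homogeneous
nonzerodivisor -/
theorem exists_pow_irr_le [IsNoetherianRing R] [Nontrivial R]
    (hpos : ∀ n : ℤ, n < 0 → 𝒜 n = ⊥) (h0 : 𝒜 0 = Submodule.span k {(1 : R)})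
    (hr : ringKrullDim R = 1) {x : R} {e : ℤ} (hx : x ∈ 𝒜 e) (hreg : IsSMulRegular R x) :
    ∃ N : ℕ, irr 𝒜 ^ N ≤ Ideal.span {x} := by
  apply Ideal.exists_pow_le_of_le_radical_of_fg
  · rw [Ideal.radical_eq_sInf]
    apply le_sInf
    rintro P ⟨hxP, hP⟩
    haveI := hP
    exact irr_le_of_prime_of_regular hpos h0 hr hx hreg P (hxP (Ideal.subset_span rfl))
  · exact IsNoetherian.noetherian _

end Height

section Gen

variable {k : Type u} [Field k] {R : Type u} [CommRing R] [Algebra k R]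
  (𝒜 : ℤ → Submodule k R) [GradedAlgebra 𝒜]

/-- a standard graded Cohen–Macaulay algebra of dimension one whose first local cohomology
vanishes in degree zero is generated by one linear form -/
theorem exists_gen_of_van [Algebra.FiniteType k R] [LocCoh.IsCohenMacaulayRing R]
    (hpos : ∀ n : ℤ, n < 0 → 𝒜 n = ⊥) (h0 : 𝒜 0 = Submodule.span k {(1 : R)})
    (hstd : Ideal.span (⋃ n ∈ Set.Ioi (0 : ℤ), (𝒜 n : Set R)) =
      Ideal.span ((𝒜 1 : Submodule k R) : Set R))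
    (hr : ringKrullDim R = 1)
    (hv : Van (GrSyz.irrel (toAG 𝒜)) (bun 𝒜 𝒜) 1 0) :
    ∃ y ∈ 𝒜 1, irr 𝒜 = Ideal.span {y} ∧ ∀ n : ℕ, y ^ n ≠ 0 := by
  classical
  haveI : IsNoetherianRing R := Algebra.FiniteType.isNoetherianRing k R
  have hr' : ringKrullDim R = ((1 : ℕ) : WithBot ℕ∞) := by rw [hr, Nat.cast_one]
  haveI : Nontrivial R := nontrivial_of_dim hr'
  have hdim1 : 1 ≤ ringKrullDim R := by rw [hr]
  have h0' := h0_of_span h0
  have hinjk : Function.Injective (algebraMap k R) := (algebraMap k R).injective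
  have h0f := isField_deg0 𝒜 h0'
  let aR : HomogeneousIdeal (toAG 𝒜) := GrSyz.irrel (toAG 𝒜)
  have haR : aR.toIdeal = Ideal.span (⋃ n ∈ Set.Ioi (0 : ℤ), (toAG 𝒜 n : Set R)) :=
    irrel_toIdeal (toAG 𝒜)
  have hirr : aR.toIdeal = irr 𝒜 := haR
  have vR0 : ∀ n : ℤ, Van aR (bun 𝒜 𝒜) 0 n := fun n =>
    van_of_cm_field 𝒜 hpos h0' aR haR 1 hr' 0 (by norm_num) n
  -- the depth
  have hJM : irr 𝒜 • (⊤ : Submodule R R) ≠ ⊤ := by
    intro h1
    have h2 : (1 : R) ∈ irr 𝒜 • (⊤ : Submodule R R) := by rw [h1]; trivial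
    have h3 : irr 𝒜 • (⊤ : Submodule R R) ≤ irr 𝒜 := by
      rw [Submodule.smul_le]
      intro r hr n _
      exact Ideal.mul_mem_right _ _ hr
    exact one_notMem_irr hpos (h3 h2)
  have hdepth : (1 : ℕ∞) ≤ LocCoh.idealDepth (irr 𝒜) R := by
    have h1 := le_idealDepth_of_subsingleton (irr 𝒜) hJM 1 (fun i hi => by
      have hi0 : i = 0 := by omega
      subst hi0
      have h2 := subsingleton_H_of_van (toAG 𝒜) (toAG 𝒜) aR 0 (fun g => vR0 g)
      rw [hirr] at h2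
      exact h2)
    rwa [Nat.cast_one] at h1
  obtain ⟨x, ⟨e, he, hxe⟩, hreg⟩ := exists_homog_regular hpos R hJM hdepth
  have hxe' : x ∈ toAG 𝒜 e := hxe
  have hx0 : x ≠ 0 := by
    intro hx0
    have h1 : (1 : R) = 0 := hreg (by
      show x • (1 : R) = x • (0 : R)
      rw [hx0, zero_smul, zero_smul])
    exact one_ne_zero h1
  obtain ⟨N, hN⟩ := exists_pow_irr_le hpos h0 hr hxe hreg
  -- the short exact sequence
  have hinj : Function.Injective (Van.mulMap (toAG 𝒜) (bun 𝒜 𝒜) e x) := fun m m' h => hreg h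
  have hS := Van.mulSES_shortExact (toAG 𝒜) (bun 𝒜 𝒜) e x hxe' hinj
  have hvY : Van aR (Van.Qx (toAG 𝒜) (bun 𝒜 𝒜) e x hxe') 0 e :=
    van_right aR (shiftGMod (bun 𝒜 𝒜) e) (bun 𝒜 𝒜) (Van.Qx (toAG 𝒜) (bun 𝒜 𝒜) e x hxe')
      (Van.mulMap (toAG 𝒜) (bun 𝒜 𝒜) e x) (Van.qxMap (toAG 𝒜) (bun 𝒜 𝒜) e x hxe')
      (Van.qxMap_comp_mulMap (toAG 𝒜) (bun 𝒜 𝒜) e x hxe') hS
      (Van.isGrHom_mulMap (toAG 𝒜) (bun 𝒜 𝒜) e x hxe')
      (Van.isGrHom_qxMap (toAG 𝒜) (bun 𝒜 𝒜) e x hxe') 0 e (vR0 e)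
      (van_shift aR (bun 𝒜 𝒜) e 1 e (by rw [sub_self]; exact hv))
  -- the piece of degree `e` is spanned by `x`
  have hle : 𝒜 e ≤ Submodule.span k {x} := by
    intro a ha
    have ha' : ofM 𝒜 𝒜 a ∈ (bun 𝒜 𝒜).gr e := ha
    have hā : Van.qxMap (toAG 𝒜) (bun 𝒜 𝒜) e x hxe' (ofM 𝒜 𝒜 a) = 0 := by
      apply eq_zero_of_van_zero aR (Van.Qx (toAG 𝒜) (bun 𝒜 𝒜) e x hxe') e hvY _
        (Van.isGrHom_qxMap (toAG 𝒜) (bun 𝒜 𝒜) e x hxe' e (ofM 𝒜 𝒜 a) ha')
      refine ⟨N, fun r hr => ?_⟩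
      rw [hirr] at hr
      obtain ⟨b, hb⟩ := Ideal.mem_span_singleton'.mp (hN hr)
      have h1 : r • ofM 𝒜 𝒜 a ∈
          LinearMap.ker (Van.qxMap (toAG 𝒜) (bun 𝒜 𝒜) e x hxe') := by
        rw [Van.ker_qxMap]
        refine ⟨ofM 𝒜 𝒜 (b * a), ?_⟩
        show x * (b * a) = r * a
        rw [← hb]
        ring
      have h2 : r • Van.qxMap (toAG 𝒜) (bun 𝒜 𝒜) e x hxe' (ofM 𝒜 𝒜 a) =
          Van.qxMap (toAG 𝒜) (bun 𝒜 𝒜) e x hxe' (r • ofM 𝒜 𝒜 a) := (map_smul _ r _).symm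
      rw [h2]
      exact h1
    have h2 : ofM 𝒜 𝒜 a ∈ LinearMap.range (Van.mulMap (toAG 𝒜) (bun 𝒜 𝒜) e x) := by
      rw [← Van.ker_qxMap (toAG 𝒜) (bun 𝒜 𝒜) e x hxe']
      exact hā
    obtain ⟨m, hm⟩ := h2
    obtain ⟨m', hm'⟩ : ∃ m' : R, x * m' = a := ⟨m, hm⟩
    have h3 : GradedAlgebra.proj 𝒜 (0 + e) (m' * x) = GradedAlgebra.proj 𝒜 0 m' * x :=
      proj_mul_of_mem hxe 0 m'
    rw [zero_add, mul_comm m' x, hm', proj_of_mem ha] at h3
    have h4 : GradedAlgebra.proj 𝒜 0 m' ∈ 𝒜 0 := proj_mem_piece 0 m'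
    rw [h0] at h4
    obtain ⟨c, hc⟩ := Submodule.mem_span_singleton.mp h4
    rw [Submodule.mem_span_singleton]
    refine ⟨c, ?_⟩
    rw [h3, ← hc, smul_mul_assoc, one_mul]
  have hfe : Module.finrank k (𝒜 e) ≤ 1 := by
    have h1 : Module.finrank k (𝒜 e) ≤ Module.finrank k (Submodule.span k {x}) :=
      Submodule.finrank_mono hle
    rw [finrank_span_singleton hx0] at h1
    exact h1
  -- the Hilbert function is nondecreasing
  have hstd' : Ideal.span (⋃ n ∈ Set.Ioi (0 : ℤ), (toAG 𝒜 n : Set R)) =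
      Ideal.span ((toAG 𝒜 1 : AddSubgroup R) : Set R) := hstd
  have hH : ∀ n : ℤ, Module.finrank k (𝒜 n) ≤ Module.finrank k (𝒜 (n + 1)) := by
    intro n
    have e1 := finrank_eq_of_rank_eq (rank_piece_eq (𝒜 := 𝒜) h0' hinjk n)
    have e2 := finrank_eq_of_rank_eq (rank_piece_eq (𝒜 := 𝒜) h0' hinjk (n + 1))
    have h2 := main_18654 R (toAG 𝒜) (toAG_eq_bot 𝒜 hpos) h0f hstd' hdim1 n
    exact e1.le.trans (h2.trans e2.ge)
  have hmono : ∀ (m : ℕ) (n : ℤ), n = 1 + (m : ℤ) →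
      Module.finrank k (𝒜 1) ≤ Module.finrank k (𝒜 n) := by
    intro m
    induction m with
    | zero =>
      intro n hn
      have hn1 : n = 1 := by rw [hn]; simp
      subst hn1
      exact le_rfl
    | succ m ih =>
      intro n hn
      have h1 := ih (n - 1) (by rw [hn]; push_cast; ring)
      have h2 := hH (n - 1)
      rw [sub_add_cancel] at h2
      exact h1.trans h2
  have hf1 : Module.finrank k (𝒜 1) ≤ 1 :=
    (hmono (e - 1).toNat e (by omega)).trans hfe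
  haveI : IsNoetherian (GrLC.deg0 (toAG 𝒜)) ↥(GrLC.comp (toAG 𝒜) (toAG 𝒜) 1) :=
    FinZ.isNoetherian_comp_of_isNoetherian (toAG 𝒜) (toAG 𝒜) 1
  haveI : Module.Finite k (𝒜 1) := finite_of_rank_eq (rank_piece_eq (𝒜 := 𝒜) h0' hinjk 1)
  haveI : (𝒜 1).IsPrincipal := (Submodule.finrank_le_one_iff_isPrincipal (𝒜 1)).mp hf1
  obtain ⟨y, hy⟩ := Submodule.IsPrincipal.principal (𝒜 1)
  have hy1 : y ∈ 𝒜 1 := by
    rw [hy]
    exact Submodule.mem_span_singleton_self y
  have hirry : irr 𝒜 = Ideal.span {y} := irr_eq_span_of_le hstd hy1 hy.le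
  have hyn : ∀ n : ℕ, y ^ n ≠ 0 := by
    intro n hzero
    have h1 := piece_le_span_pow h0 hy1 hirry n
    rw [hzero, Submodule.span_zero_singleton, le_bot_iff] at h1
    have h2 := (piece_eq_bot_iff 𝒜 hpos h0 hstd hdim1 (n : ℤ)).mp h1
    omega
  exact ⟨y, hy1, hirry, hyn⟩

/-- the first local cohomology of a standard graded algebra which is a polynomial ring in one
variable vanishes in nonnegative degrees -/
theorem van_of_algEquiv [Algebra.FiniteType k R] [LocCoh.IsCohenMacaulayRing R]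
    (hpos : ∀ n : ℤ, n < 0 → 𝒜 n = ⊥) (h0 : 𝒜 0 = Submodule.span k {(1 : R)})
    (hstd : Ideal.span (⋃ n ∈ Set.Ioi (0 : ℤ), (𝒜 n : Set R)) =
      Ideal.span ((𝒜 1 : Submodule k R) : Set R))
    (hr : ringKrullDim R = 1) (ε : R ≃ₐ[k] k[X]) (n : ℤ) (hn : 0 ≤ n) :
    Van (GrSyz.irrel (toAG 𝒜)) (bun 𝒜 𝒜) 1 n := by
  classical
  haveI : IsNoetherianRing R := Algebra.FiniteType.isNoetherianRing k R
  have hr' : ringKrullDim R = ((1 : ℕ) : WithBot ℕ∞) := by rw [hr, Nat.cast_one]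
  haveI : Nontrivial R := nontrivial_of_dim hr'
  have hdim1 : 1 ≤ ringKrullDim R := by rw [hr]
  haveI : IsDomain R := MulEquiv.isDomain k[X] ε.toRingEquiv.toMulEquiv
  haveI : IsPrincipalIdealRing R :=
    IsPrincipalIdealRing.of_surjective ε.symm ε.symm.surjective
  obtain ⟨f, hf⟩ := Submodule.IsPrincipal.principal (irr 𝒜)
  have hf' : irr 𝒜 = Ideal.span {f} := hf
  have hfirr : f ∈ irr 𝒜 := by
    rw [hf']
    exact Ideal.subset_span rfl
  have hf0 : GradedAlgebra.proj 𝒜 0 f = 0 := proj_zero_of_mem_irr hpos hfirr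
  obtain ⟨y, hydef⟩ : ∃ y : R, y = GradedAlgebra.proj 𝒜 1 f := ⟨_, rfl⟩
  have hy1 : y ∈ 𝒜 1 := by
    rw [hydef]
    exact proj_mem_piece 1 f
  have hle : 𝒜 1 ≤ Submodule.span k {y} := by
    intro a ha
    have h1 : a ∈ irr 𝒜 := mem_irr_of_isPosHom ⟨1, one_pos, ha⟩
    rw [hf'] at h1
    obtain ⟨b, hb⟩ := Ideal.mem_span_singleton'.mp h1
    have h2 := proj_one_mul hpos hf0 b
    rw [hb, proj_of_mem ha, ← hydef] at h2
    have h4 : GradedAlgebra.proj 𝒜 0 b ∈ 𝒜 0 := proj_mem_piece 0 b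
    rw [h0] at h4
    obtain ⟨c, hc⟩ := Submodule.mem_span_singleton.mp h4
    rw [Submodule.mem_span_singleton]
    refine ⟨c, ?_⟩
    rw [h2, ← hc, smul_mul_assoc, one_mul]
  have hirry : irr 𝒜 = Ideal.span {y} := irr_eq_span_of_le hstd hy1 hle
  have hy0 : y ≠ 0 := by
    intro hzero
    have h1 : 𝒜 1 = ⊥ := by
      rw [eq_bot_iff]
      rw [hzero, Submodule.span_zero_singleton] at hle
      exact hle
    have h2 := (piece_eq_bot_iff 𝒜 hpos h0 hstd hdim1 1).mp h1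
    omega
  -- the regular sequence
  let aR : HomogeneousIdeal (toAG 𝒜) := GrSyz.irrel (toAG 𝒜)
  have haR : aR.toIdeal = Ideal.span (⋃ n ∈ Set.Ioi (0 : ℤ), (toAG 𝒜 n : Set R)) :=
    irrel_toIdeal (toAG 𝒜)
  have hirr : aR.toIdeal = irr 𝒜 := haR
  have hyaR : y ∈ aR.toIdeal := by
    rw [hirr, hirry]
    exact Ideal.subset_span rfl
  have hy1' : y ∈ toAG 𝒜 1 := hy1
  have hys : ∀ y' ∈ [y], y' ∈ toAG 𝒜 1 ∧ y' ∈ aR.toIdeal := by
    intro y' hy'
    rw [List.mem_singleton] at hy'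
    rw [hy']
    exact ⟨hy1', hyaR⟩
  have hyreg : IsSMulRegular (bun 𝒜 𝒜).carrier y := by
    intro m m' h
    have h' : y * toM 𝒜 𝒜 m = y * toM 𝒜 𝒜 m' := h
    have h'' : toM 𝒜 𝒜 m = toM 𝒜 𝒜 m' := mul_left_cancel₀ hy0 h'
    exact h''
  have hreg : RingTheory.Sequence.IsWeaklyRegular (bun 𝒜 𝒜).carrier [y] :=
    RingTheory.Sequence.IsWeaklyRegular.cons hyreg (RingTheory.Sequence.IsWeaklyRegular.nil R _)
  have htors : ∀ r ∈ aR.toIdeal, ∀ x : (bun 𝒜 𝒜).carrier,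
      r • x ∈ Ideal.ofList [y] • (⊤ : Submodule R (bun 𝒜 𝒜).carrier) := by
    intro r hr x
    rw [Ideal.ofList_singleton]
    refine Submodule.smul_mem_smul ?_ Submodule.mem_top
    rw [← hirry, ← hirr]
    exact hr
  have hdeg : ∀ k' : ℤ, 0 < k' → ∀ x ∈ (bun 𝒜 𝒜).gr k',
      x ∈ Ideal.ofList [y] • (⊤ : Submodule R (bun 𝒜 𝒜).carrier) := by
    intro k' hk' x hx
    have hx' : toM 𝒜 𝒜 x ∈ 𝒜 k' := hx
    have h1 : toM 𝒜 𝒜 x ∈ irr 𝒜 := mem_irr_of_isPosHom ⟨k', hk', hx'⟩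
    rw [hirry] at h1
    obtain ⟨b, hb⟩ := Ideal.mem_span_singleton'.mp h1
    rw [Ideal.ofList_singleton]
    have h2 : y • ofM 𝒜 𝒜 b ∈ Ideal.span {y} • (⊤ : Submodule R (bun 𝒜 𝒜).carrier) :=
      Submodule.smul_mem_smul (Ideal.subset_span rfl) Submodule.mem_top
    have h3 : y • ofM 𝒜 𝒜 b = x := by
      show y * b = toM 𝒜 𝒜 x
      rw [mul_comm]
      exact hb
    rw [← h3]
    exact h2
  exact van_of_regular_sequence (toAG 𝒜) aR 0 [y] (bun 𝒜 𝒜) hys hreg htors hdeg 1 n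
    (by push_cast; omega)

end Gen

section Segre

variable {k : Type u} [Field k] {R S T : Type u} [CommRing R] [CommRing S] [CommRing T]
  [Algebra k R] [Algebra k S] [Algebra k T]
  (𝒜 : ℤ → Submodule k R) (ℬ : ℤ → Submodule k S) (𝒯 : ℤ → Submodule k T)
  [GradedAlgebra 𝒜] [GradedAlgebra ℬ] [GradedAlgebra 𝒯]
  (ψ : T →ₐ[k] R ⊗[k] S) (hT : GrSeg.IsSegreRing 𝒜 ℬ 𝒯 ψ)

include hT in
/-- **the Segre product of a standard graded Cohen–Macaulay algebra of dimension one with a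
standard graded Cohen–Macaulay algebra of dimension at least two is Cohen–Macaulay exactly when
the first factor is a polynomial ring** -/
theorem segre_cm_iff_polynomial (hposR : ∀ n : ℤ, n < 0 → 𝒜 n = ⊥)
    (h0R : 𝒜 0 = Submodule.span k {(1 : R)}) [Algebra.FiniteType k R]
    (hposS : ∀ n : ℤ, n < 0 → ℬ n = ⊥) (h0S : ℬ 0 = Submodule.span k {(1 : S)})
    [Algebra.FiniteType k S]
    [LocCoh.IsCohenMacaulayRing R] [LocCoh.IsCohenMacaulayRing S]
    (hstdR : Ideal.span (⋃ n ∈ Set.Ioi (0 : ℤ), (𝒜 n : Set R)) =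
      Ideal.span ((𝒜 1 : Submodule k R) : Set R))
    (hstdS : Ideal.span (⋃ n ∈ Set.Ioi (0 : ℤ), (ℬ n : Set S)) =
      Ideal.span ((ℬ 1 : Submodule k S) : Set S))
    (hr : ringKrullDim R = 1) (hs : 2 ≤ ringKrullDim S) :
    LocCoh.IsCohenMacaulayRing T ↔ Nonempty (R ≃ₐ[k] k[X]) := by
  have hr' : ringKrullDim R = ((1 : ℕ) : WithBot ℕ∞) := by rw [hr, Nat.cast_one]
  haveI : Nontrivial R := nontrivial_of_dim hr'
  haveI : Nontrivial S := by
    by_contra h
    rw [not_nontrivial_iff_subsingleton] at h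
    have h2 : ((2 : ℕ) : WithBot ℕ∞) ≤ ringKrullDim S := by exact_mod_cast hs
    rw [ringKrullDim_eq_bot_of_subsingleton] at h2
    exact absurd (le_bot_iff.mp h2) (WithBot.natCast_ne_bot 2)
  obtain ⟨s, hs'⟩ := exists_nat_dim (k := k) S
  have h2s : 2 ≤ s := by
    rw [hs'] at hs
    exact_mod_cast hs
  have h1S : 1 ≤ ringKrullDim S := by
    rw [hs']
    exact_mod_cast (by omega : 1 ≤ s)
  have hB : ∀ n : ℤ, ℬ n = ⊥ ↔ n < 0 := piece_eq_bot_iff ℬ hposS h0S hstdS h1S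
  refine (segre_cm_dim_one_van 𝒜 ℬ 𝒯 ψ hT hposR h0R hposS h0S hr s hs' h2s).trans
    ⟨fun h => ?_, fun h n => ?_⟩
  · have hv : Van (GrSyz.irrel (toAG 𝒜)) (bun 𝒜 𝒜) 1 0 := by
      rcases h 0 with h1 | h1
      · exact h1
      · exact absurd ((hB 0).mp h1) (lt_irrefl 0)
    obtain ⟨y, hy, hirr, hne⟩ := exists_gen_of_van 𝒜 hposR h0R hstdR hr hv
    exact nonempty_algEquiv_polynomial hposR h0R hy hirr hne
  · obtain ⟨ε⟩ := h
    by_cases hn : n < 0
    · exact Or.inr ((hB n).mpr hn)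
    · exact Or.inl (van_of_algEquiv 𝒜 hposR h0R hstdR hr ε n (not_lt.mp hn))

end Segre

end Groth.Agent.Lib.Helper6.SegCM
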