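import Mathlib
import Groth.Prelude.Def_GrLC
import Groth.Prelude.Def_CAlg
import Groth.Agent.Lib.Helper4.DimFT2
import Groth.Agent.Lib.Helper8.Depth7
import Groth.Agent.Lib.Helper8.Depth8
import Groth.Agent.Lib.Helper8.Depth11
import Groth.Agent.Lib.Helper8.Depth18
import Groth.Agent.Lib.Helper8.Depth21
import Groth.Agent.Lib.Helper8.Depth24
import Groth.Agent.Lib.Helper8.Depth25
import Groth.Agent.Lib.Helper8.LC11
import Groth.Agent.Lib.Helper8.LC18
import Groth.Agent.Lib.Helper6.GrDim.GDb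
import Groth.Agent.Lib.Helper6.GrDepth.GPe
import Groth.Agent.Lib.Helper6.SegMod.SMg
import Groth.Agent.Lib.Helper6.SegCM.CMa

set_option autoImplicit false
set_option linter.unusedSectionVars false
set_option linter.unusedVariables false
set_option linter.unusedSimpArgs false
set_option linter.style.haveILetI false
set_option linter.overlappingInstances false
set_option maxHeartbeats 800000

/-!
# The Cohen–Macaulay property of a finitely generated graded module over a graded algebra over a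
field, in terms of graded local cohomology (helper6)
-/

universe u

namespace Groth.Agent.Lib.Helper6.SegCM

open DirectSum LocCoh
open Groth.Agent.Helper9.GrLCLib Groth.Agent.Helper9.GrLCLib.Trans
open Groth.Agent.Helper8.Depth Groth.Agent.Helper8.LC
open Groth.Agent.Lib.Helper6.SegDim Groth.Agent.Lib.Helper6.SegMod
open Groth.Agent.Lib.Helper6.CMReg Groth.Agent.Lib.Helper6.SegK
open Groth.Agent.Lib.Helper6

section Arith

lemma cm_arith {a h : ℕ∞} {b : WithBot ℕ∞} {n : ℕ} (hna : (n : ℕ∞) ≤ a + h)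
    (hbc : b + ((h : ℕ∞) : WithBot ℕ∞) ≤ ((n : ℕ) : WithBot ℕ∞))
    (hab : ((a : ℕ∞) : WithBot ℕ∞) ≤ b) : b = ((a : ℕ∞) : WithBot ℕ∞) := by
  induction b using WithBot.recBotCoe with
  | bot => exact absurd hab (not_le_of_gt (WithBot.bot_lt_coe a))
  | coe b =>
    have hab' : a ≤ b := WithBot.coe_le_coe.mp hab
    have hbc' : b + h ≤ (n : ℕ∞) := by exact_mod_cast hbc
    have hb : b ≠ ⊤ := ne_top_of_le_ne_top (ENat.natCast_ne_top n) (le_self_add.trans hbc')
    have hh : h ≠ ⊤ := ne_top_of_le_ne_top (ENat.natCast_ne_top n) (le_add_self.trans hbc')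
    lift b to ℕ using hb
    lift h to ℕ using hh
    have ha : a ≠ ⊤ := ne_top_of_le_ne_top (ENat.natCast_ne_top b) hab'
    lift a to ℕ using ha
    have h1 : n ≤ a + h := by exact_mod_cast hna
    have h2 : b + h ≤ n := by exact_mod_cast hbc'
    have h3 : a ≤ b := by exact_mod_cast hab'
    have h4 : b = a := by omega
    rw [h4]

end Arith

section Alg

variable {k : Type u} [Field k] {T : Type u} [CommRing T] [Algebra k T]
  {𝒯 : ℤ → Submodule k T} [GradedAlgebra 𝒯]
  {X : Type u} [AddCommGroup X] [Module T X] [Module k X] [IsScalarTower k T X]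
  {𝒬 : ℤ → AddSubgroup X} [DirectSum.Decomposition 𝒬] [SetLike.GradedSMul 𝒯 𝒬]

include 𝒬 in
/-- the annihilator of a nonzero graded module lies in the irrelevant ideal -/
theorem ann_le_irrel [Nontrivial X] (hpos : ∀ n : ℤ, n < 0 → 𝒯 n = ⊥)
    (h0 : 𝒯 0 = Submodule.span k {(1 : T)}) : Module.annihilator T X ≤ irrel 𝒯 := by
  apply le_irrel_of_isHomogeneous hpos h0
    (SegMod.annihilator_isHomogeneous (𝒜 := 𝒯) (ℳ := 𝒬))
  intro h
  have h1 : (1 : T) ∈ Module.annihilator T X := by rw [h]; exact Submodule.mem_top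
  obtain ⟨x, hx⟩ := exists_ne (0 : X)
  apply hx
  have h2 := Module.mem_annihilator.mp h1 x
  rwa [one_smul] at h2

include 𝒬 in
/-- graded Nakayama -/
theorem irrel_smul_top_ne_top [Module.Finite T X] [Nontrivial X]
    (hpos : ∀ n : ℤ, n < 0 → 𝒯 n = ⊥) (h0 : 𝒯 0 = Submodule.span k {(1 : T)}) :
    irrel 𝒯 • (⊤ : Submodule T X) ≠ ⊤ := by
  haveI : Nontrivial T := Module.nontrivial T X
  intro h
  obtain ⟨r, hr1, hr2⟩ := Submodule.exists_sub_one_mem_and_smul_eq_zero_of_fg_of_le_smul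
    (irrel 𝒯) (⊤ : Submodule T X) Module.Finite.fg_top (by rw [h])
  have hr : r ∈ Module.annihilator T X :=
    Module.mem_annihilator.mpr (fun x => hr2 x Submodule.mem_top)
  have hr' : r ∈ irrel 𝒯 := ann_le_irrel (𝒬 := 𝒬) hpos h0 hr
  apply one_notMem_irrel (𝒜 := 𝒯) hpos
  have h1 : (1 : T) = r - (r - 1) := by ring
  rw [h1]
  exact (irrel 𝒯).sub_mem hr' hr1

include 𝒬 in
/-- a graded Cohen–Macaulay module has depth along the irrelevant ideal at least its dimension -/
theorem le_idealDepth_irrel_of_cm (hpos : ∀ n : ℤ, n < 0 → 𝒯 n = ⊥)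
    (h0 : 𝒯 0 = Submodule.span k {(1 : T)}) [Algebra.FiniteType k T] [Module.Finite T X]
    (hXcm : ∀ (q : Ideal T) [q.IsPrime], Subsingleton (LocalizedModule q.primeCompl X) ∨
      LocCoh.IsCohenMacaulayModule (Localization.AtPrime q) (LocalizedModule q.primeCompl X))
    {n : ℕ} (hsupp : Module.supportDim T X = n) :
    (n : ℕ∞) ≤ idealDepth (irrel 𝒯) X := by
  classical
  haveI : IsNoetherianRing T := Algebra.FiniteType.isNoetherianRing k T
  haveI : Nontrivial X := by
    by_contra h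
    rw [not_nontrivial_iff_subsingleton] at h
    rw [Module.supportDim_eq_bot_of_subsingleton] at hsupp
    exact WithBot.bot_ne_natCast n hsupp
  haveI : Nontrivial T := Module.nontrivial T X
  haveI hmax : (irrel 𝒯).IsMaximal := irrel_isMaximal hpos h0
  rw [idealDepth_eq_iInf_depth_localization]
  refine le_iInf₂ (fun p hp => ?_)
  have hpe : p = ⟨irrel 𝒯, hmax.isPrime⟩ :=
    PrimeSpectrum.ext (hmax.eq_of_le p.isPrime.ne_top hp).symm
  subst hpe
  show (n : ℕ∞) ≤ depth (Localization.AtPrime (irrel 𝒯))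
    (LocalizedModule (irrel 𝒯).primeCompl X)
  rcases Nat.eq_zero_or_pos n with hn0 | hn
  · rw [hn0, Nat.cast_zero]
    exact zero_le
  have hdimI : ringKrullDim (T ⧸ Module.annihilator T X) = n := by
    rw [← hsupp, Module.supportDim_eq_ringKrullDim_quotient_annihilator]
  obtain ⟨𝔭₀, h𝔭₀, hhom₀, hI𝔭₀, hdim₀⟩ := exists_homogeneous_prime_dim_eq
    (SegMod.annihilator_isHomogeneous (𝒜 := 𝒯) (ℳ := 𝒬)) hn hdimI
  haveI := h𝔭₀
  have h𝔭₀𝔪 : 𝔭₀ ≤ irrel 𝒯 := le_irrel_of_isHomogeneous hpos h0 hhom₀ h𝔭₀.ne_top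
  haveI hP₀ : (𝔭₀.map (algebraMap T (Localization.AtPrime (irrel 𝒯)))).IsPrime :=
    isPrime_map_localization 𝔭₀ (irrel 𝒯) h𝔭₀𝔪
  have hP₀c : (𝔭₀.map (algebraMap T (Localization.AtPrime (irrel 𝒯)))).comap
      (algebraMap T (Localization.AtPrime (irrel 𝒯))) = 𝔭₀ :=
    comap_map_localization 𝔭₀ (irrel 𝒯) h𝔭₀𝔪
  have hsuppM : (⟨𝔭₀, h𝔭₀⟩ : PrimeSpectrum T) ∈ Module.support T X :=
    Module.mem_support_iff_of_finite.mpr hI𝔭₀
  have hsuppA : (⟨𝔭₀.map (algebraMap T (Localization.AtPrime (irrel 𝒯))), hP₀⟩ :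
      PrimeSpectrum (Localization.AtPrime (irrel 𝒯))) ∈
      Module.support (Localization.AtPrime (irrel 𝒯))
        (LocalizedModule (irrel 𝒯).primeCompl X) := by
    rw [mem_support_localizedModule_iff]
    have : PrimeSpectrum.comap (algebraMap T (Localization.AtPrime (irrel 𝒯)))
        ⟨𝔭₀.map (algebraMap T (Localization.AtPrime (irrel 𝒯))), hP₀⟩ =
        (⟨𝔭₀, h𝔭₀⟩ : PrimeSpectrum T) := PrimeSpectrum.ext hP₀c
    rw [this]; exact hsuppM
  have hnt : ¬ Subsingleton (LocalizedModule (irrel 𝒯).primeCompl X) := by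
    intro hsub
    have := Module.support_eq_empty_iff (R := Localization.AtPrime (irrel 𝒯)).mpr hsub
    rw [this] at hsuppA
    exact hsuppA
  have hcm : LocCoh.IsCohenMacaulayModule (Localization.AtPrime (irrel 𝒯))
      (LocalizedModule (irrel 𝒯).primeCompl X) := (hXcm (irrel 𝒯)).resolve_left hnt
  have h1 := dim_quotient_le_supportDim_of_mem_support
    (⟨𝔭₀.map (algebraMap T (Localization.AtPrime (irrel 𝒯))), hP₀⟩ :
      PrimeSpectrum (Localization.AtPrime (irrel 𝒯))) hsuppA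
  have h2 := height_le_ringKrullDim_localization_quotient 𝔭₀ (irrel 𝒯) h𝔭₀𝔪 _ hP₀c
  have h3 := Groth.Agent.Lib.Helper4.DimFT2.height_map_eq_dim_of_isMaximal k T 𝔭₀ (irrel 𝒯) h𝔭₀𝔪
  have h4 : (n : WithBot ℕ∞) ≤ Module.supportDim (Localization.AtPrime (irrel 𝒯))
      (LocalizedModule (irrel 𝒯).primeCompl X) := by
    rw [← hdim₀, ← h3]; exact h2.trans h1
  rw [hcm] at h4
  exact_mod_cast h4

/-- the Cohen–Macaulay property at the primes below the irrelevant ideal -/
theorem cm_localization_of_le_irrel (hpos : ∀ n : ℤ, n < 0 → 𝒯 n = ⊥)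
    (h0 : 𝒯 0 = Submodule.span k {(1 : T)}) [Algebra.FiniteType k T] [Module.Finite T X]
    {n : ℕ} (hsupp : Module.supportDim T X ≤ n) (hdepth : (n : ℕ∞) ≤ idealDepth (irrel 𝒯) X)
    (q : Ideal T) [hq : q.IsPrime] (hq𝔪 : q ≤ irrel 𝒯)
    (hnt : Nontrivial (LocalizedModule q.primeCompl X)) :
    LocCoh.IsCohenMacaulayModule (Localization.AtPrime q) (LocalizedModule q.primeCompl X) := by
  classical
  haveI : IsNoetherianRing T := Algebra.FiniteType.isNoetherianRing k T
  haveI : Nontrivial T := nontrivial_of_ne (0 : T) 1 (fun h => hq.ne_top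
    ((Ideal.eq_top_iff_one q).mpr (by rw [← h]; exact q.zero_mem)))
  haveI hmax : (irrel 𝒯).IsMaximal := irrel_isMaximal hpos h0
  have hmem : (⟨q, hq⟩ : PrimeSpectrum T) ∈ Module.support T X := Module.mem_support_iff.mpr hnt
  have h1 : idealDepth (irrel 𝒯) X ≤ depth (Localization.AtPrime (irrel 𝒯))
      (LocalizedModule (irrel 𝒯).primeCompl X) :=
    idealDepth_le_depth_localization X (irrel 𝒯) ⟨irrel 𝒯, hmax.isPrime⟩ le_rfl
  have h2 := depth_localization_le_depth_add_height X q (irrel 𝒯) hq𝔪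
  have h3 := Groth.Agent.Lib.Helper4.DimFT2.height_map_eq_dim_of_isMaximal k T q (irrel 𝒯) hq𝔪
  have h4 := supportDim_localizedModule_add_dim_quotient_le q X hmem
  have h5 := depth_le_supportDim (A := Localization.AtPrime q)
    (M := LocalizedModule q.primeCompl X)
  have hna : (n : ℕ∞) ≤ depth (Localization.AtPrime q) (LocalizedModule q.primeCompl X) +
      ((irrel 𝒯).map (Ideal.Quotient.mk q)).height := (hdepth.trans h1).trans h2
  have hbc : Module.supportDim (Localization.AtPrime q) (LocalizedModule q.primeCompl X) +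
      ((((irrel 𝒯).map (Ideal.Quotient.mk q)).height : ℕ∞) : WithBot ℕ∞) ≤
      ((n : ℕ) : WithBot ℕ∞) := by
    rw [h3]; exact h4.trans hsupp
  exact cm_arith hna hbc h5

include 𝒬 in
/-- **a graded module whose depth along the irrelevant ideal is at least its dimension is
Cohen–Macaulay at every prime** -/
theorem cm_of_le_idealDepth_irrel (hpos : ∀ n : ℤ, n < 0 → 𝒯 n = ⊥)
    (h0 : 𝒯 0 = Submodule.span k {(1 : T)}) [Algebra.FiniteType k T] [Module.Finite T X]
    {n : ℕ} (hsupp : Module.supportDim T X ≤ n) (hdepth : (n : ℕ∞) ≤ idealDepth (irrel 𝒯) X)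
    (q : Ideal T) [hq : q.IsPrime] :
    Subsingleton (LocalizedModule q.primeCompl X) ∨
      LocCoh.IsCohenMacaulayModule (Localization.AtPrime q) (LocalizedModule q.primeCompl X) := by
  classical
  rcases subsingleton_or_nontrivial (LocalizedModule q.primeCompl X) with hsub | hnt
  · exact Or.inl hsub
  right
  haveI : IsNoetherianRing T := Algebra.FiniteType.isNoetherianRing k T
  haveI hgs : SetLike.GradedSMul (toAG 𝒯) 𝒬 := gsmulToAG' 𝒯 𝒬
  haveI hcp : (GrHt.core (toAG 𝒯) q).IsPrime := GrHt.core_isPrime (toAG 𝒯) q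
  have hcq : GrHt.core (toAG 𝒯) q ≤ q := GrHt.core_le (toAG 𝒯) q
  have hchom : (GrHt.core (toAG 𝒯) q).IsHomogeneous 𝒯 := by
    intro i r hr
    have h1 : ((DirectSum.decompose (toAG 𝒯) r i : toAG 𝒯 i) : T) ∈ GrHt.core (toAG 𝒯) q :=
      GrHt.core_isHomogeneous (toAG 𝒯) q i hr
    rw [decompose_toAG_coe] at h1
    exact h1
  have hc𝔪 : GrHt.core (toAG 𝒯) q ≤ irrel 𝒯 :=
    le_irrel_of_isHomogeneous hpos h0 hchom hcp.ne_top
  have hIq : Module.annihilator T X ≤ q :=
    Module.mem_support_iff_of_finite.mp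
      (Module.mem_support_iff.mpr hnt : (⟨q, hq⟩ : PrimeSpectrum T) ∈ Module.support T X)
  have hIc : Module.annihilator T X ≤ GrHt.core (toAG 𝒯) q :=
    GrHt.le_core_of_isHomogeneous (toAG 𝒯) (GrDim.annihilator_isHomogeneous (toAG 𝒯) 𝒬) hIq
  have hntc : Nontrivial (LocalizedModule (GrHt.core (toAG 𝒯) q).primeCompl X) :=
    Module.mem_support_iff.mp
      (Module.mem_support_iff_of_finite.mpr hIc :
        (⟨GrHt.core (toAG 𝒯) q, hcp⟩ : PrimeSpectrum T) ∈ Module.support T X)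
  have hcmc := cm_localization_of_le_irrel hpos h0 hsupp hdepth (GrHt.core (toAG 𝒯) q) hc𝔪 hntc
  unfold LocCoh.IsCohenMacaulayModule at hcmc
  haveI : (q.map (Ideal.Quotient.mk (GrHt.core (toAG 𝒯) q))).IsPrime :=
    Ideal.isPrime_map_quotientMk_of_isPrime hcq
  obtain ⟨d, hd⟩ := ENat.ne_top_iff_exists.mp
    ((q.map (Ideal.Quotient.mk (GrHt.core (toAG 𝒯) q))).height_ne_top
      (Ideal.IsPrime.ne_top inferInstance))
  have hdep := GrDepth.depth_localization_eq_add_height_core T (toAG 𝒯) X 𝒬 q d hd.symm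
  have hdim := GrDim.supportDim_localization_eq_add_height_core (toAG 𝒯) X 𝒬 q d hd.symm hnt
  unfold LocCoh.IsCohenMacaulayModule
  rw [hdim, hdep, hcmc, WithBot.coe_add]
  rfl

end Alg

section VanSec

variable {k : Type u} [Field k] {T : Type u} [CommRing T] [Algebra k T]
  (𝒯 : ℤ → Submodule k T) [GradedAlgebra 𝒯]
  {X : Type u} [AddCommGroup X] [Module T X] [Module k X] [IsScalarTower k T X]
  (𝒬 : ℤ → AddSubgroup X) [DirectSum.Decomposition 𝒬] [SetLike.GradedSMul 𝒯 𝒬]

lemma toIdeal_eq_irrel (aT : HomogeneousIdeal (toAG 𝒯))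
    (haT : aT.toIdeal = Ideal.span (⋃ n ∈ Set.Ioi (0 : ℤ), (toAG 𝒯 n : Set T))) :
    aT.toIdeal = irrel 𝒯 := by
  rw [haT]
  unfold irrel
  congr 1
  ext z
  constructor
  · intro hz
    obtain ⟨n, hn, hz⟩ := Set.mem_iUnion₂.mp hz
    exact ⟨n, hn, hz⟩
  · rintro ⟨n, hn, hz⟩
    exact Set.mem_iUnion₂.mpr ⟨n, hn, hz⟩

/-- the graded local cohomology of a graded Cohen–Macaulay module vanishes below the dimension -/
theorem van_of_cm_mod (hpos : ∀ n : ℤ, n < 0 → 𝒯 n = ⊥)
    (h0 : 𝒯 0 = Submodule.span k {(1 : T)}) [Algebra.FiniteType k T] [IsNoetherianRing T]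
    [Module.Finite T X]
    (hXcm : ∀ (q : Ideal T) [q.IsPrime], Subsingleton (LocalizedModule q.primeCompl X) ∨
      LocCoh.IsCohenMacaulayModule (Localization.AtPrime q) (LocalizedModule q.primeCompl X))
    (aT : HomogeneousIdeal (toAG 𝒯))
    (haT : aT.toIdeal = Ideal.span (⋃ n ∈ Set.Ioi (0 : ℤ), (toAG 𝒯 n : Set T)))
    (n : ℕ) (hsupp : Module.supportDim T X = n) (q : ℕ) (hq : q < n) (g : ℤ) :
    Van aT (bun 𝒯 𝒬) q g := by
  haveI : Nontrivial X := by
    by_contra h
    rw [not_nontrivial_iff_subsingleton] at h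
    rw [Module.supportDim_eq_bot_of_subsingleton] at hsupp
    exact WithBot.bot_ne_natCast n hsupp
  have hirr := toIdeal_eq_irrel 𝒯 aT haT
  have hJM : aT.toIdeal • (⊤ : Submodule T X) ≠ ⊤ := by
    rw [hirr]; exact irrel_smul_top_ne_top (𝒬 := 𝒬) hpos h0
  have hd : (n : ℕ∞) ≤ idealDepth aT.toIdeal X := by
    rw [hirr]; exact le_idealDepth_irrel_of_cm (𝒬 := 𝒬) hpos h0 hXcm hsupp
  have hsub : Subsingleton (LocCoh.H aT.toIdeal q X) := by
    apply subsingleton_of_lt_idealDepth aT.toIdeal hJM q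
    exact lt_of_lt_of_le (by exact_mod_cast hq) hd
  intro z _
  exact @Subsingleton.elim _ hsub _ _

/-- vanishing above the dimension of the support -/
theorem van_of_supportDim_lt [IsNoetherianRing T] (aT : HomogeneousIdeal (toAG 𝒯)) (n : ℕ)
    (hsupp : Module.supportDim T X ≤ n) (q : ℕ) (hq : n < q) (g : ℤ) :
    Van aT (bun 𝒯 𝒬) q g := by
  have hsub : Subsingleton (LocCoh.H aT.toIdeal q X) :=
    subsingleton_of_supportDim_lt aT.toIdeal X q
      (lt_of_le_of_lt hsupp (by exact_mod_cast hq))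
  intro z _
  exact @Subsingleton.elim _ hsub _ _

/-- **a finitely generated graded module whose graded local cohomology vanishes below the
dimension is Cohen–Macaulay at every prime** -/
theorem cm_mod_of_van (hpos : ∀ n : ℤ, n < 0 → 𝒯 n = ⊥)
    (h0 : 𝒯 0 = Submodule.span k {(1 : T)}) [Algebra.FiniteType k T] [IsNoetherianRing T]
    [Module.Finite T X]
    (aT : HomogeneousIdeal (toAG 𝒯))
    (haT : aT.toIdeal = Ideal.span (⋃ n ∈ Set.Ioi (0 : ℤ), (toAG 𝒯 n : Set T)))
    (n : ℕ) (hsupp : Module.supportDim T X ≤ n)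
    (h : ∀ q : ℕ, q < n → ∀ g : ℤ, Van aT (bun 𝒯 𝒬) q g) (q : Ideal T) [q.IsPrime] :
    Subsingleton (LocalizedModule q.primeCompl X) ∨
      LocCoh.IsCohenMacaulayModule (Localization.AtPrime q) (LocalizedModule q.primeCompl X) := by
  rcases subsingleton_or_nontrivial X with hX | hX
  · left
    infer_instance
  have hirr := toIdeal_eq_irrel 𝒯 aT haT
  have hJM : irrel 𝒯 • (⊤ : Submodule T X) ≠ ⊤ := irrel_smul_top_ne_top (𝒬 := 𝒬) hpos h0
  apply cm_of_le_idealDepth_irrel (𝒬 := 𝒬) hpos h0 hsupp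
  apply le_idealDepth_of_subsingleton (irrel 𝒯) hJM n
  intro i hi
  have h1 := subsingleton_H_of_van (toAG 𝒯) (toAG 𝒬) aT i (h i hi)
  rw [hirr] at h1
  exact h1

end VanSec

end Groth.Agent.Lib.Helper6.SegCM
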