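import Mathlib
import Groth.Prelude.Def_GrLC
import Groth.Prelude.Def_GrSeg
import Groth.Prelude.Def_CAlg
import Groth.Agent.Lib.Helper3.Segre
import Groth.Agent.Lib.Helper9.Segre.Basic
import Groth.Agent.Lib.Helper6.SegDim.SDf
import Groth.Agent.Lib.Helper6.SegK.SKs
import Groth.Agent.Lib.Helper6.SegMod.SMh
import Groth.Agent.Lib.Helper6.SegCM.CMd
import Groth.Agent.Lib.Helper6.SegCM.MCa

set_option autoImplicit false
set_option linter.unusedSectionVars false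
set_option linter.unusedVariables false
set_option linter.unusedSimpArgs false
set_option linter.style.haveILetI false
set_option linter.overlappingInstances false
set_option maxHeartbeats 800000

/-!
# The Cohen–Macaulay property of Segre products of graded Cohen–Macaulay modules (helper6)
-/

universe u

namespace Groth.Agent.Lib.Helper6.SegCM

open scoped TensorProduct
open CategoryTheory DirectSum Groth.Agent.Helper9.GrLCLib Groth.Agent.Helper9.GrLCLib.Trans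
open Groth.Agent.Helper8.LC Groth.Agent.Helper9 Groth.Agent.Helper8
open Groth.Agent.Lib.Helper6.CMReg Groth.Agent.Lib.Helper6.SegK Groth.Agent.Lib.Helper6.SegDim
open Groth.Agent.Helper9.SegreLib
open Groth.Agent.Lib.Helper6

section Pieces

variable {k : Type u} [Field k] {R : Type u} [CommRing R] [Algebra k R] [IsNoetherianRing R]
  (𝒜 : ℤ → Submodule k R) [GradedAlgebra 𝒜]
  {M : Type u} [AddCommGroup M] [Module R M] [Module.Finite R M]
  (ℳ : ℤ → AddSubgroup M) [DirectSum.Decomposition ℳ] [SetLike.GradedSMul 𝒜 ℳ]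

lemma finrank_comp_eq_zero_iff_mod (h0f : IsField (GrLC.deg0 (toAG 𝒜))) (n : ℤ) :
    Module.finrank (GrLC.deg0 (toAG 𝒜)) (GrLC.comp (toAG 𝒜) (toAG ℳ) n) = 0 ↔ ℳ n = ⊥ := by
  haveI : IsNoetherian R M := isNoetherian_of_isNoetherianRing_of_finite R M
  haveI : IsNoetherian (GrLC.deg0 (toAG 𝒜)) (GrLC.comp (toAG 𝒜) (toAG ℳ) n) :=
    FinZ.isNoetherian_comp_of_isNoetherian (toAG 𝒜) (toAG ℳ) n
  letI := h0f.toField
  rw [Module.finrank_zero_iff]
  constructor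
  · intro h
    rw [AddSubgroup.eq_bot_iff_forall]
    intro x hx
    have hx' : x ∈ GrLC.comp (toAG 𝒜) (toAG ℳ) n := hx
    have h1 : (⟨x, hx'⟩ : GrLC.comp (toAG 𝒜) (toAG ℳ) n) = 0 := Subsingleton.elim _ _
    exact congrArg Subtype.val h1
  · intro h
    constructor
    intro x y
    apply Subtype.ext
    have hx : (x : M) ∈ ℳ n := x.2
    have hy : (y : M) ∈ ℳ n := y.2
    rw [h, AddSubgroup.mem_bot] at hx hy
    rw [hx, hy]

end Pieces

section SegreMod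

variable {k : Type u} [Field k] {R S T : Type u} [CommRing R] [CommRing S] [CommRing T]
  [Algebra k R] [Algebra k S] [Algebra k T]
  (𝒜 : ℤ → Submodule k R) (ℬ : ℤ → Submodule k S) (𝒯 : ℤ → Submodule k T)
  [GradedAlgebra 𝒜] [GradedAlgebra ℬ] [GradedAlgebra 𝒯]
  (ψ : T →ₐ[k] R ⊗[k] S) (hT : GrSeg.IsSegreRing 𝒜 ℬ 𝒯 ψ)
  {M : Type u} [AddCommGroup M] [Module R M] [Module k M] [IsScalarTower k R M]
  (ℳ : ℤ → AddSubgroup M) [DirectSum.Decomposition ℳ] [SetLike.GradedSMul 𝒜 ℳ]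
  {N : Type u} [AddCommGroup N] [Module S N] [Module k N] [IsScalarTower k S N]
  (𝒩 : ℤ → AddSubgroup N) [DirectSum.Decomposition 𝒩] [SetLike.GradedSMul ℬ 𝒩]
  {P : Type u} [AddCommGroup P] [Module T P] [Module k P] [IsScalarTower k T P]
  (𝒬 : ℤ → AddSubgroup P) [DirectSum.Decomposition 𝒬]
  (φ : P →ₗ[k] M ⊗[k] N) (hP : GrSeg.IsSegreMod ψ ℳ 𝒩 𝒬 φ)

include hT hP in
/-- the Segre product of graded modules is a graded module over the Segre product -/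
theorem gradedSMul_of_isSegreMod : SetLike.GradedSMul 𝒯 𝒬 :=
  ⟨fun {i j} _ _ ht hp => by
    rw [vadd_eq_add]
    exact smul_mem_of_mem hP hT
      (fun i j r x hr hx => by
        have h1 := SetLike.GradedSMul.smul_mem (A := 𝒜) (B := ℳ) hr hx
        rwa [vadd_eq_add] at h1)
      (fun i j s y hs hy => by
        have h1 := SetLike.GradedSMul.smul_mem (A := ℬ) (B := 𝒩) hs hy
        rwa [vadd_eq_add] at h1) ht hp⟩

lemma nontrivial_of_supportDim {A : Type u} [CommRing A] {Y : Type u} [AddCommGroup Y]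
    [Module A Y] {r : ℕ} (hr : Module.supportDim A Y = r) : Nontrivial Y := by
  by_contra h
  rw [not_nontrivial_iff_subsingleton] at h
  rw [Module.supportDim_eq_bot_of_subsingleton] at hr
  exact WithBot.bot_ne_natCast r hr

include hT hP in
/-- **the Cohen–Macaulay property of the Segre product of two graded Cohen–Macaulay modules of
dimensions at least two** -/
theorem segre_mod_cm_iff (hposR : ∀ n : ℤ, n < 0 → 𝒜 n = ⊥)
    (h0R : 𝒜 0 = Submodule.span k {(1 : R)}) [Algebra.FiniteType k R]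
    (hposS : ∀ n : ℤ, n < 0 → ℬ n = ⊥) (h0S : ℬ 0 = Submodule.span k {(1 : S)})
    [Algebra.FiniteType k S]
    [Module.Finite R M] [Module.Finite S N] [Module.Finite T P] [Nontrivial P]
    (mR : HomogeneousIdeal 𝒜)
    (hmR : mR.toIdeal = Ideal.span (⋃ n ∈ Set.Ioi (0 : ℤ), (𝒜 n : Set R)))
    (EM : GrLC.StarInjRes 𝒜 ℳ) (mS : HomogeneousIdeal ℬ)
    (hmS : mS.toIdeal = Ideal.span (⋃ n ∈ Set.Ioi (0 : ℤ), (ℬ n : Set S)))
    (EN : GrLC.StarInjRes ℬ 𝒩) (r s : ℕ) (h2r : 2 ≤ r) (h2s : 2 ≤ s)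
    (hdM : Module.supportDim R M = r) (hdN : Module.supportDim S N = s)
    (hMcm : ∀ (q : Ideal R) [q.IsPrime], Subsingleton (LocalizedModule q.primeCompl M) ∨
      LocCoh.IsCohenMacaulayModule (Localization.AtPrime q) (LocalizedModule q.primeCompl M))
    (hNcm : ∀ (q : Ideal S) [q.IsPrime], Subsingleton (LocalizedModule q.primeCompl N) ∨
      LocCoh.IsCohenMacaulayModule (Localization.AtPrime q) (LocalizedModule q.primeCompl N)) :
    (∀ (q : Ideal T) [q.IsPrime], Subsingleton (LocalizedModule q.primeCompl P) ∨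
      LocCoh.IsCohenMacaulayModule (Localization.AtPrime q) (LocalizedModule q.primeCompl P)) ↔
      (∀ d : ℤ, ℳ d = ⊥ ∨ EN.Hcomp mS s d = ⊥) ∧ (∀ d : ℤ, EM.Hcomp mR r d = ⊥ ∨ 𝒩 d = ⊥) := by
  classical
  haveI : Nontrivial M := nontrivial_of_supportDim hdM
  haveI : Nontrivial N := nontrivial_of_supportDim hdN
  haveI : Nontrivial R := Module.nontrivial R M
  haveI : Nontrivial S := Module.nontrivial S N
  haveI : IsNoetherianRing R := Algebra.FiniteType.isNoetherianRing k R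
  haveI : IsNoetherianRing S := Algebra.FiniteType.isNoetherianRing k S
  haveI : IsNoetherianRing T :=
    Groth.Agent.Helper3.Segre.isNoetherianRing_of_segre 𝒜 ℬ 𝒯 ψ hT.2 hT.1
  haveI : Nontrivial T := nontrivial_of_segre ψ
  have hposT := segre_pos 𝒜 ℬ 𝒯 ψ hT hposR
  have h0T := segre_zero 𝒜 ℬ 𝒯 ψ hT h0R h0S
  haveI : Algebra.FiniteType k T := finiteType_of_noeth hposT h0T
  haveI : SetLike.GradedSMul 𝒯 𝒬 := gradedSMul_of_isSegreMod 𝒜 ℬ 𝒯 ψ hT ℳ 𝒩 𝒬 φ hP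
  have h0R' := h0_of_span h0R
  have h0S' := h0_of_span h0S
  have h0T' := h0T_of_segre ψ hT h0R h0S
  have fR0 := isField_deg0 𝒜 h0R'
  have fS0 := isField_deg0 ℬ h0S'
  have fT0 := isField_deg0 𝒯 h0T'
  -- the irrelevant ideals
  let aR := idealToAG 𝒜 mR
  let aS := idealToAG ℬ mS
  let aT : HomogeneousIdeal (toAG 𝒯) := GrSyz.irrel (toAG 𝒯)
  have haR : aR.toIdeal = Ideal.span (⋃ n ∈ Set.Ioi (0 : ℤ), (toAG 𝒜 n : Set R)) := hmR
  have haS : aS.toIdeal = Ideal.span (⋃ n ∈ Set.Ioi (0 : ℤ), (toAG ℬ n : Set S)) := hmS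
  have haT : aT.toIdeal = Ideal.span (⋃ n ∈ Set.Ioi (0 : ℤ), (toAG 𝒯 n : Set T)) :=
    irrel_toIdeal (toAG 𝒯)
  have hdimP : Module.supportDim T P = ((r + s - 1 : ℕ) : WithBot ℕ∞) := by
    rcases SegMod.supportDim_segre_of_cm ℳ 𝒩 hposR h0R hposS h0S 𝒯 ψ hT 𝒬 φ hP r s
      (by omega) (by omega) hdM hdN hMcm hNcm with h | h
    · exact h
    · exact absurd h (not_subsingleton P)
  haveI : Module.Finite R (bun 𝒜 ℳ).carrier := ‹Module.Finite R M›
  haveI : Module.Finite S (bun ℬ 𝒩).carrier := ‹Module.Finite S N›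
  haveI : Module.Finite T (bun 𝒯 𝒬).carrier := ‹Module.Finite T P›
  -- vanishing for the factors
  have vR : ∀ (q : ℕ) (n : ℤ), q ≠ r → Van aR (bun 𝒜 ℳ) q n := by
    intro q n hq
    rcases lt_or_gt_of_ne hq with h | h
    · exact van_of_cm_mod 𝒜 ℳ hposR h0R hMcm aR haR r hdM q h n
    · exact van_of_supportDim_lt 𝒜 ℳ aR r hdM.le q h n
  have vS : ∀ (q : ℕ) (n : ℤ), q ≠ s → Van aS (bun ℬ 𝒩) q n := by
    intro q n hq
    rcases lt_or_gt_of_ne hq with h | h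
    · exact van_of_cm_mod ℬ 𝒩 hposS h0S hNcm aS haS s hdN q h n
    · exact van_of_supportDim_lt ℬ 𝒩 aS s hdN.le q h n
  -- abbreviations for the dimensions
  set fR : ℕ → ℤ → ℕ := fun q n => Module.finrank (GrLC.deg0 (toAG 𝒜)) (LCp aR (bun 𝒜 ℳ) q n)
    with hfR
  set fS : ℕ → ℤ → ℕ := fun q n => Module.finrank (GrLC.deg0 (toAG ℬ)) (LCp aS (bun ℬ 𝒩) q n)
    with hfS
  set fT : ℕ → ℤ → ℕ := fun q n => Module.finrank (GrLC.deg0 (toAG 𝒯)) (LCp aT (bun 𝒯 𝒬) q n)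
    with hfT
  set fA : ℤ → ℕ := fun n =>
    Module.finrank (GrLC.deg0 (toAG 𝒜)) ↥(GrLC.comp (toAG 𝒜) (bun 𝒜 ℳ).gr n) with hfA
  set fB : ℤ → ℕ := fun n =>
    Module.finrank (GrLC.deg0 (toAG ℬ)) ↥(GrLC.comp (toAG ℬ) (bun ℬ 𝒩).gr n) with hfB
  have fR_zero : ∀ (q : ℕ) (n : ℤ), q ≠ r → fR q n = 0 := fun q n hq =>
    finrank_lcp_eq_zero_of_van (toAG 𝒜) aR (bun 𝒜 ℳ) q n (vR q n hq)
  have fS_zero : ∀ (q : ℕ) (n : ℤ), q ≠ s → fS q n = 0 := fun q n hq =>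
    finrank_lcp_eq_zero_of_van (toAG ℬ) aS (bun ℬ 𝒩) q n (vS q n hq)
  -- the Künneth formula
  have kun : ∀ (q : ℕ) (n : ℤ), fT q n = fA n * fS q n + fR q n * fB n +
      ∑ i ∈ Finset.range (q + 2), fR i n * fS (q + 1 - i) n := by
    intro q n
    have key := seg_kunneth_lcp ψ hT h0R' h0S' h0T' (bun 𝒜 ℳ) (bun ℬ 𝒩) aR haR aS haS aT haT n
      (vR 0 n (by omega)) (vR 1 n (by omega)) (vS 0 n (by omega)) (vS 1 n (by omega)) q
    have hgr := segEquiv_gr 𝒜 ℬ ψ hT ℳ 𝒩 𝒬 φ hP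
    have e1 := (piso_of_equiv aT (bun 𝒯 𝒬) (SegM ψ hT (bun 𝒜 ℳ) (bun ℬ 𝒩))
      (segEquiv 𝒜 ℬ ψ hT ℳ 𝒩 𝒬 φ hP) hgr
      (isGrHom_symm _ _ _ hgr) q n).finrank_eq
    exact e1.trans key
  -- the formula below the dimension
  have kun' : ∀ (q : ℕ) (n : ℤ), q < r + s - 1 → fT q n = fA n * fS q n + fR q n * fB n := by
    intro q n hq
    rw [kun q n, Nat.add_eq_left]
    apply Finset.sum_eq_zero
    intro i _
    by_cases hi : i = r
    · rw [fS_zero (q + 1 - i) n (by omega), mul_zero]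
    · rw [fR_zero i n hi, zero_mul]
  -- translation of the conditions
  have cA : ∀ n : ℤ, fA n = 0 ↔ ℳ n = ⊥ := fun n => finrank_comp_eq_zero_iff_mod 𝒜 ℳ fR0 n
  have cB : ∀ n : ℤ, fB n = 0 ↔ 𝒩 n = ⊥ := fun n => finrank_comp_eq_zero_iff_mod ℬ 𝒩 fS0 n
  have cR : ∀ (q : ℕ) (n : ℤ), fR q n = 0 ↔ EM.Hcomp mR q n = ⊥ := fun q n =>
    ⟨fun h => (van_toAG_iff_hcomp 𝒜 ℳ EM mR q n).mp
        (van_of_finrank_lcp_eq_zero (toAG 𝒜) fR0 aR haR (bun 𝒜 ℳ) q n h),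
      fun h => finrank_lcp_eq_zero_of_van (toAG 𝒜) aR (bun 𝒜 ℳ) q n
        ((van_toAG_iff_hcomp 𝒜 ℳ EM mR q n).mpr h)⟩
  have cS : ∀ (q : ℕ) (n : ℤ), fS q n = 0 ↔ EN.Hcomp mS q n = ⊥ := fun q n =>
    ⟨fun h => (van_toAG_iff_hcomp ℬ 𝒩 EN mS q n).mp
        (van_of_finrank_lcp_eq_zero (toAG ℬ) fS0 aS haS (bun ℬ 𝒩) q n h),
      fun h => finrank_lcp_eq_zero_of_van (toAG ℬ) aS (bun ℬ 𝒩) q n
        ((van_toAG_iff_hcomp ℬ 𝒩 EN mS q n).mpr h)⟩
  constructor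
  · intro hCM
    have vT : ∀ (q : ℕ) (n : ℤ), q < r + s - 1 → fT q n = 0 := fun q n hq =>
      finrank_lcp_eq_zero_of_van (toAG 𝒯) aT (bun 𝒯 𝒬) q n
        (van_of_cm_mod 𝒯 𝒬 hposT h0T hCM aT haT (r + s - 1) hdimP q hq n)
    refine ⟨fun n => ?_, fun n => ?_⟩
    · have h1 := vT s n (by omega)
      rw [kun' s n (by omega), Nat.add_eq_zero_iff, Nat.mul_eq_zero] at h1
      rcases h1.1 with h | h
      · exact Or.inl ((cA n).mp h)
      · exact Or.inr ((cS s n).mp h)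
    · have h1 := vT r n (by omega)
      rw [kun' r n (by omega), Nat.add_eq_zero_iff, Nat.mul_eq_zero, Nat.mul_eq_zero] at h1
      rcases h1.2 with h | h
      · exact Or.inl ((cR r n).mp h)
      · exact Or.inr ((cB n).mp h)
  · rintro ⟨hA, hB⟩ p hp
    refine cm_mod_of_van 𝒯 𝒬 hposT h0T aT haT (r + s - 1) hdimP.le ?_ p
    intro q hq n
    apply van_of_finrank_lcp_eq_zero (toAG 𝒯) fT0 aT haT (bun 𝒯 𝒬) q n
    show fT q n = 0
    rw [kun' q n hq, Nat.add_eq_zero_iff, Nat.mul_eq_zero, Nat.mul_eq_zero]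
    constructor
    · by_cases hqs : q = s
      · subst hqs
        rcases hA n with h | h
        · exact Or.inl ((cA n).mpr h)
        · exact Or.inr ((cS q n).mpr h)
      · exact Or.inr (fS_zero q n hqs)
    · by_cases hqr : q = r
      · subst hqr
        rcases hB n with h | h
        · exact Or.inl ((cR q n).mpr h)
        · exact Or.inr ((cB n).mpr h)
      · exact Or.inl (fR_zero q n hqr)

include hT hP in
/-- **the Cohen–Macaulay property of the Segre product of a graded Cohen–Macaulay module of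
dimension one with a graded Cohen–Macaulay module of dimension `s ≥ 1`** -/
theorem segre_mod_cm_dim_one (hposR : ∀ n : ℤ, n < 0 → 𝒜 n = ⊥)
    (h0R : 𝒜 0 = Submodule.span k {(1 : R)}) [Algebra.FiniteType k R]
    (hposS : ∀ n : ℤ, n < 0 → ℬ n = ⊥) (h0S : ℬ 0 = Submodule.span k {(1 : S)})
    [Algebra.FiniteType k S]
    [Module.Finite R M] [Module.Finite S N] [Module.Finite T P] [Nontrivial P]
    (mR : HomogeneousIdeal 𝒜)
    (hmR : mR.toIdeal = Ideal.span (⋃ n ∈ Set.Ioi (0 : ℤ), (𝒜 n : Set R)))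
    (EM : GrLC.StarInjRes 𝒜 ℳ) (s : ℕ) (h1s : 1 ≤ s)
    (hdM : Module.supportDim R M = ((1 : ℕ) : WithBot ℕ∞))
    (hdN : Module.supportDim S N = s)
    (hMcm : ∀ (q : Ideal R) [q.IsPrime], Subsingleton (LocalizedModule q.primeCompl M) ∨
      LocCoh.IsCohenMacaulayModule (Localization.AtPrime q) (LocalizedModule q.primeCompl M))
    (hNcm : ∀ (q : Ideal S) [q.IsPrime], Subsingleton (LocalizedModule q.primeCompl N) ∨
      LocCoh.IsCohenMacaulayModule (Localization.AtPrime q) (LocalizedModule q.primeCompl N)) :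
    (2 ≤ s → ((∀ (q : Ideal T) [q.IsPrime], Subsingleton (LocalizedModule q.primeCompl P) ∨
      LocCoh.IsCohenMacaulayModule (Localization.AtPrime q) (LocalizedModule q.primeCompl P)) ↔
        ∀ d : ℤ, EM.Hcomp mR 1 d = ⊥ ∨ 𝒩 d = ⊥)) ∧
      (s = 1 → (∀ (q : Ideal T) [q.IsPrime], Subsingleton (LocalizedModule q.primeCompl P) ∨
        LocCoh.IsCohenMacaulayModule (Localization.AtPrime q)
          (LocalizedModule q.primeCompl P))) := by
  classical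
  haveI : Nontrivial M := nontrivial_of_supportDim hdM
  haveI : Nontrivial N := nontrivial_of_supportDim hdN
  haveI : Nontrivial R := Module.nontrivial R M
  haveI : Nontrivial S := Module.nontrivial S N
  haveI : IsNoetherianRing R := Algebra.FiniteType.isNoetherianRing k R
  haveI : IsNoetherianRing S := Algebra.FiniteType.isNoetherianRing k S
  haveI : IsNoetherianRing T :=
    Groth.Agent.Helper3.Segre.isNoetherianRing_of_segre 𝒜 ℬ 𝒯 ψ hT.2 hT.1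
  haveI : Nontrivial T := nontrivial_of_segre ψ
  have hposT := segre_pos 𝒜 ℬ 𝒯 ψ hT hposR
  have h0T := segre_zero 𝒜 ℬ 𝒯 ψ hT h0R h0S
  haveI : Algebra.FiniteType k T := finiteType_of_noeth hposT h0T
  haveI : SetLike.GradedSMul 𝒯 𝒬 := gradedSMul_of_isSegreMod 𝒜 ℬ 𝒯 ψ hT ℳ 𝒩 𝒬 φ hP
  have h0R' := h0_of_span h0R
  have h0S' := h0_of_span h0S
  have h0T' := h0T_of_segre ψ hT h0R h0S
  have fT0 := isField_deg0 𝒯 h0T'
  have hinjR : Function.Injective (algebraMap k R) := (algebraMap k R).injective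
  have hinjS : Function.Injective (algebraMap k S) := (algebraMap k S).injective
  have hinjT : Function.Injective (algebraMap k T) := (algebraMap k T).injective
  -- the irrelevant ideals
  let aR := idealToAG 𝒜 mR
  let aS : HomogeneousIdeal (toAG ℬ) := GrSyz.irrel (toAG ℬ)
  let aT : HomogeneousIdeal (toAG 𝒯) := GrSyz.irrel (toAG 𝒯)
  have haR : aR.toIdeal = Ideal.span (⋃ n ∈ Set.Ioi (0 : ℤ), (toAG 𝒜 n : Set R)) := hmR
  have haS : aS.toIdeal = Ideal.span (⋃ n ∈ Set.Ioi (0 : ℤ), (toAG ℬ n : Set S)) :=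
    irrel_toIdeal (toAG ℬ)
  have haT : aT.toIdeal = Ideal.span (⋃ n ∈ Set.Ioi (0 : ℤ), (toAG 𝒯 n : Set T)) :=
    irrel_toIdeal (toAG 𝒯)
  have hdimP0 : Module.supportDim T P = ((1 + s - 1 : ℕ) : WithBot ℕ∞) := by
    rcases SegMod.supportDim_segre_of_cm ℳ 𝒩 hposR h0R hposS h0S 𝒯 ψ hT 𝒬 φ hP 1 s
      le_rfl h1s hdM hdN hMcm hNcm with h | h
    · exact h
    · exact absurd h (not_subsingleton P)
  have hdimP : Module.supportDim T P = (s : WithBot ℕ∞) := by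
    rw [hdimP0, Nat.add_sub_cancel_left]
  haveI : Module.Finite R (bun 𝒜 ℳ).carrier := ‹Module.Finite R M›
  haveI : Module.Finite S (bun ℬ 𝒩).carrier := ‹Module.Finite S N›
  haveI : Module.Finite T (bun 𝒯 𝒬).carrier := ‹Module.Finite T P›
  haveI : Module.Finite T (SegM ψ hT (bun 𝒜 ℳ) (bun ℬ 𝒩)).carrier :=
    Module.Finite.equiv (segEquiv 𝒜 ℬ ψ hT ℳ 𝒩 𝒬 φ hP)
  -- vanishing for the factors
  have vR : ∀ (q : ℕ) (n : ℤ), q ≠ 1 → Van aR (bun 𝒜 ℳ) q n := by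
    intro q n hq
    rcases lt_or_gt_of_ne hq with h | h
    · exact van_of_cm_mod 𝒜 ℳ hposR h0R hMcm aR haR 1 hdM q h n
    · exact van_of_supportDim_lt 𝒜 ℳ aR 1 hdM.le q h n
  have vS : ∀ (q : ℕ) (n : ℤ), q ≠ s → Van aS (bun ℬ 𝒩) q n := by
    intro q n hq
    rcases lt_or_gt_of_ne hq with h | h
    · exact van_of_cm_mod ℬ 𝒩 hposS h0S hNcm aS haS s hdN q h n
    · exact van_of_supportDim_lt ℬ 𝒩 aS s hdN.le q h n
  -- the Čech complexes
  obtain ⟨xs, hxs1, hxs2⟩ := exists_list_gens_pos aR haR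
  obtain ⟨ys, hys1, hys2⟩ := exists_list_gens_pos aS haS
  obtain ⟨KM⟩ := CPack.nonempty_cpack (bun 𝒜 ℳ) xs hxs1
  obtain ⟨KN⟩ := CPack.nonempty_cpack (bun ℬ 𝒩) ys hys1
  have haR' : aR.toIdeal ≤ Ideal.span {y | y ∈ xs} := hxs2.le
  have haS' : aS.toIdeal ≤ Ideal.span {y | y ∈ ys} := hys2.le
  have hposR' : ∀ e : ℤ, 0 < e → ∀ x ∈ toAG 𝒜 e, x ∈ aR.toIdeal := by
    intro e he x hx
    rw [haR]
    exact Ideal.subset_span (Set.mem_iUnion₂.mpr ⟨e, he, hx⟩)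
  have hposS' : ∀ e : ℤ, 0 < e → ∀ x ∈ toAG ℬ e, x ∈ aS.toIdeal := by
    intro e he x hx
    rw [haS]
    exact Ideal.subset_span (Set.mem_iUnion₂.mpr ⟨e, he, hx⟩)
  have hposT' : ∀ e : ℤ, 0 < e → ∀ x ∈ toAG 𝒯 e, x ∈ aT.toIdeal := by
    intro e he x hx
    rw [haT]
    exact Ideal.subset_span (Set.mem_iUnion₂.mpr ⟨e, he, hx⟩)
  have hxs : ∀ e : ℤ, 0 < e → ∀ x ∈ toAG 𝒜 e, x ∈ Ideal.span {y | y ∈ xs} :=
    fun e he x hx => haR' (hposR' e he x hx)
  have hys : ∀ e : ℤ, 0 < e → ∀ x ∈ toAG ℬ e, x ∈ Ideal.span {y | y ∈ ys} :=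
    fun e he x hx => haS' (hposS' e he x hx)
  have haG : aT.toIdeal ≤
      Ideal.span {t : T | ∃ e : ℤ, 0 < e ∧ ∃ x ∈ 𝒜 e, ∃ y ∈ ℬ e, ψ t = x ⊗ₜ[k] y} := by
    rw [haT]
    exact irrelevant_le_span ψ hT
  -- transfer between the abstract and the concrete Segre product
  have hgr := segEquiv_gr 𝒜 ℬ ψ hT ℳ 𝒩 𝒬 φ hP
  have toT : ∀ (q : ℕ) (n : ℤ), Van aT (SegM ψ hT (bun 𝒜 ℳ) (bun ℬ 𝒩)) q n →
      Van aT (bun 𝒯 𝒬) q n := fun q n h =>
    van_of_equiv aT (SegM ψ hT (bun 𝒜 ℳ) (bun ℬ 𝒩)) (bun 𝒯 𝒬)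
      (segEquiv 𝒜 ℬ ψ hT ℳ 𝒩 𝒬 φ hP).symm
      (fun g x hx => hgr g x hx) q n h
  have fromT : ∀ (q : ℕ) (n : ℤ), Van aT (bun 𝒯 𝒬) q n →
      Van aT (SegM ψ hT (bun 𝒜 ℳ) (bun ℬ 𝒩)) q n := fun q n h =>
    van_of_equiv aT (bun 𝒯 𝒬) (SegM ψ hT (bun 𝒜 ℳ) (bun ℬ 𝒩))
      (segEquiv 𝒜 ℬ ψ hT ℳ 𝒩 𝒬 φ hP)
      (isGrHom_symm _ _ _ hgr) q n h
  -- the Čech form of the vanishing
  have H0M := fun n : ℤ => KM.H0_of_van aR haR' hposR' n (vR 0 n (by omega))
  have H0N := fun n : ℤ => KN.H0_of_van aS haS' hposS' n (vS 0 n (by omega))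
  have vT0 : ∀ n : ℤ, Van aT (bun 𝒯 𝒬) 0 n := fun n =>
    toT 0 n (seg_van_zero ψ hT KM KN hxs hys aT haG hposT' n (H0M n) (H0N n))
  refine ⟨fun h2s => ⟨fun hCM n => ?_, fun hcond => ?_⟩, fun hs1 => ?_⟩
  · -- necessity
    by_cases hB : 𝒩 n = ⊥
    · exact Or.inr hB
    · left
      obtain ⟨v0, hv0, hv0ne⟩ : ∃ v ∈ 𝒩 n, v ≠ 0 := by
        by_contra hcon
        push Not at hcon
        exact hB ((AddSubgroup.eq_bot_iff_forall _).mpr hcon)
      have hvT : Van aT (bun 𝒯 𝒬) 1 n :=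
        van_of_cm_mod 𝒯 𝒬 hposT h0T hCM aT haT s hdimP 1 (by omega) n
      have hvS := fromT 1 n hvT
      have hw0d : KN.φ (ofM ℬ 𝒩 v0) ∈ KN.T.gr n := KN.φ_gr n _ hv0
      have hw0p : KN.p 0 (KN.φ (ofM ℬ 𝒩 v0)) = KN.φ (ofM ℬ 𝒩 v0) := KN.p0_φ _
      have hw0ne : KN.φ (ofM ℬ 𝒩 v0) ≠ 0 := fun h =>
        hv0ne (KN.φ_inj (h.trans (map_zero KN.φ).symm))
      have H1M : ∀ u : KM.T.carrier, u ∈ KM.T.gr n → KM.p 1 u = u → KM.D u = 0 →
          ∃ u0 : KM.T.carrier, u0 ∈ KM.T.gr n ∧ KM.p 0 u0 = u0 ∧ KM.D u0 = u :=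
        fun u hud hup huD => seg_H1_of_van_one ψ hT KM KN hxs hys aT haG hposT' n hvS (H0N n)
          _ hw0d hw0p hw0ne u hud hup huD
      have hvR : Van aR (bun 𝒜 ℳ) 1 n := KM.van_one_of_H1 aR haR' hposR' n H1M
      exact (van_toAG_iff_hcomp 𝒜 ℳ EM mR 1 n).mp hvR
  · -- sufficiency
    intro p hp
    refine cm_mod_of_van 𝒯 𝒬 hposT h0T aT haT s hdimP.le ?_ p
    intro q hq n
    rcases q with _ | _ | q'
    · exact vT0 n
    · have H1N := KN.H1_of_van aS haS' hposS' n (vS 1 n (by omega))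
      rcases hcond n with h | h
      · have hvR : Van aR (bun 𝒜 ℳ) 1 n := (van_toAG_iff_hcomp 𝒜 ℳ EM mR 1 n).mpr h
        have H1M := KM.H1_of_van aR haR' hposR' n hvR
        exact toT 1 n (seg_van_one ψ hT KM KN hxs hys aT haG hposT' n H1M H1N)
      · have hX : ∀ x : (bun ℬ 𝒩).carrier, x ∈ (bun ℬ 𝒩).gr n → x = 0 := by
          intro x hx
          have hx' : toM ℬ 𝒩 x ∈ 𝒩 n := hx
          rw [h, AddSubgroup.mem_bot] at hx'
          exact hx'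
        have ZN := KN.Z1_zero n hX H1N
        exact toT 1 n (seg_van_one_of_Z1 ψ hT KM KN hxs hys aT haG hposT' n ZN)
    · apply toT
      apply van_of_finrank_lcp_eq_zero (toAG 𝒯) fT0 aT haT
      apply seg_finrank_zero_of_subsingleton ψ hT KM KN hxs hys aT haG hposT' n q' h0T' hinjT
      intro x hx
      have hsum : x.1 + x.2 = q' + 3 := Finset.HasAntidiagonal.mem_antidiagonal.mp hx
      by_cases hx0 : x.1 = 0
      · left
        rw [hx0]
        exact KM.subsingleton_ddgs_Hq_zero n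
      · by_cases hx1 : x.1 = 1
        · right
          have hx2 : x.2 = q' + 2 := by omega
          rw [hx2]
          exact KN.subsingleton_ddgs_Hq_of_van aS haS' hposS' n q' h0S' hinjS
            (vS (q' + 2) n (by omega))
        · left
          obtain ⟨i, hi⟩ : ∃ i, x.1 = i + 2 := ⟨x.1 - 2, by omega⟩
          rw [hi]
          exact KM.subsingleton_ddgs_Hq_of_van aR haR' hposR' n i h0R' hinjR
            (vR (i + 2) n (by omega))
  · -- dimension one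
    subst hs1
    intro p hp
    refine cm_mod_of_van 𝒯 𝒬 hposT h0T aT haT 1 hdimP.le ?_ p
    intro q hq n
    have hq0 : q = 0 := by omega
    subst hq0
    exact vT0 n

end SegreMod

end Groth.Agent.Lib.Helper6.SegCM
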