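import Mathlib
import Groth.Prelude.Def_GrLC
import Groth.Prelude.Def_GrSeg
import Groth.Prelude.Def_CAlg
import Groth.Agent.Lib.Helper6.SegCM.MCb

set_option autoImplicit false
set_option linter.unusedSectionVars false
set_option linter.unusedVariables false
set_option linter.unusedSimpArgs false
set_option linter.style.haveILetI false
set_option linter.overlappingInstances false
set_option maxHeartbeats 800000

/-!
# The graded local cohomology of Segre products of graded Cohen–Macaulay modules below the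
dimension (helper6)
-/

universe u

namespace Groth.Agent.Lib.Helper6.SegCM

open scoped TensorProduct
open CategoryTheory DirectSum Groth.Agent.Helper9.GrLCLib Groth.Agent.Helper9.GrLCLib.Trans
open Groth.Agent.Helper8.LC Groth.Agent.Helper9 Groth.Agent.Helper8
open Groth.Agent.Lib.Helper6.CMReg Groth.Agent.Lib.Helper6.SegK Groth.Agent.Lib.Helper6.SegDim
open Groth.Agent.Helper9.SegreLib
open Groth.Agent.Lib.Helper6

section SegreMod

variable {k : Type u} [Field k] {R S T : Type u} [CommRing R] [CommRing S] [CommRing T]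
  [Algebra k R] [Algebra k S] [Algebra k T]
  (𝒜 : ℤ → Submodule k R) (ℬ : ℤ → Submodule k S) (𝒯 : ℤ → Submodule k T)
  [GradedAlgebra 𝒜] [GradedAlgebra ℬ] [GradedAlgebra 𝒯]
  (ψ : T →ₐ[k] R ⊗[k] S) (hT : GrSeg.IsSegreRing 𝒜 ℬ 𝒯 ψ)
  {M : Type u} [AddCommGroup M] [Module R M] [Module k M] [IsScalarTower k R M]
  (ℳ : ℤ → AddSubgroup M) [DirectSum.Decomposition ℳ] [SetLike.GradedSMul 𝒜 ℳ]
  {N : Type u} [AddCommGroup N] [Module S N] [Module k N] [IsScalarTower k S N]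
  (𝒩 : ℤ → AddSubgroup N) [DirectSum.Decomposition 𝒩] [SetLike.GradedSMul ℬ 𝒩]
  {P : Type u} [AddCommGroup P] [Module T P] [Module k P] [IsScalarTower k T P]
  (𝒬 : ℤ → AddSubgroup P) [DirectSum.Decomposition 𝒬]
  (φ : P →ₗ[k] M ⊗[k] N) (hP : GrSeg.IsSegreMod ψ ℳ 𝒩 𝒬 φ)

include hT hP in
/-- **the graded local cohomology of the Segre product of two graded Cohen–Macaulay modules of
dimensions at least two, below the dimension** -/
theorem segre_mod_van_iff (hposR : ∀ n : ℤ, n < 0 → 𝒜 n = ⊥)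
    (h0R : 𝒜 0 = Submodule.span k {(1 : R)}) [Algebra.FiniteType k R]
    (hposS : ∀ n : ℤ, n < 0 → ℬ n = ⊥) (h0S : ℬ 0 = Submodule.span k {(1 : S)})
    [Algebra.FiniteType k S] [IsNoetherianRing T] [SetLike.GradedSMul 𝒯 𝒬]
    [Module.Finite R M] [Module.Finite S N] [Module.Finite T P] [Nontrivial P]
    (aR : HomogeneousIdeal (toAG 𝒜))
    (haR : aR.toIdeal = Ideal.span (⋃ n ∈ Set.Ioi (0 : ℤ), (toAG 𝒜 n : Set R)))
    (aS : HomogeneousIdeal (toAG ℬ))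
    (haS : aS.toIdeal = Ideal.span (⋃ n ∈ Set.Ioi (0 : ℤ), (toAG ℬ n : Set S)))
    (aT : HomogeneousIdeal (toAG 𝒯))
    (haT : aT.toIdeal = Ideal.span (⋃ n ∈ Set.Ioi (0 : ℤ), (toAG 𝒯 n : Set T)))
    (r s : ℕ) (h2r : 2 ≤ r) (h2s : 2 ≤ s)
    (hdM : Module.supportDim R M = r) (hdN : Module.supportDim S N = s)
    (hMcm : ∀ (q : Ideal R) [q.IsPrime], Subsingleton (LocalizedModule q.primeCompl M) ∨
      LocCoh.IsCohenMacaulayModule (Localization.AtPrime q) (LocalizedModule q.primeCompl M))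
    (hNcm : ∀ (q : Ideal S) [q.IsPrime], Subsingleton (LocalizedModule q.primeCompl N) ∨
      LocCoh.IsCohenMacaulayModule (Localization.AtPrime q) (LocalizedModule q.primeCompl N)) :
    Module.supportDim T P = ((r + s - 1 : ℕ) : WithBot ℕ∞) ∧
      ∀ (q : ℕ) (n : ℤ), q < r + s - 1 →
        (Van aT (bun 𝒯 𝒬) q n ↔
          (ℳ n = ⊥ ∨ Van aS (bun ℬ 𝒩) q n) ∧ (Van aR (bun 𝒜 ℳ) q n ∨ 𝒩 n = ⊥)) := by
  classical
  haveI : Nontrivial M := nontrivial_of_supportDim hdM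
  haveI : Nontrivial N := nontrivial_of_supportDim hdN
  haveI : Nontrivial R := Module.nontrivial R M
  haveI : Nontrivial S := Module.nontrivial S N
  haveI : IsNoetherianRing R := Algebra.FiniteType.isNoetherianRing k R
  haveI : IsNoetherianRing S := Algebra.FiniteType.isNoetherianRing k S
  haveI : Nontrivial T := nontrivial_of_segre ψ
  have hposT := segre_pos 𝒜 ℬ 𝒯 ψ hT hposR
  have h0T := segre_zero 𝒜 ℬ 𝒯 ψ hT h0R h0S
  have h0R' := h0_of_span h0R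
  have h0S' := h0_of_span h0S
  have h0T' := h0T_of_segre ψ hT h0R h0S
  have fR0 := isField_deg0 𝒜 h0R'
  have fS0 := isField_deg0 ℬ h0S'
  have fT0 := isField_deg0 𝒯 h0T'
  have hdimP : Module.supportDim T P = ((r + s - 1 : ℕ) : WithBot ℕ∞) := by
    rcases SegMod.supportDim_segre_of_cm ℳ 𝒩 hposR h0R hposS h0S 𝒯 ψ hT 𝒬 φ hP r s
      (by omega) (by omega) hdM hdN hMcm hNcm with h | h
    · exact h
    · exact absurd h (not_subsingleton P)
  haveI : Module.Finite R (bun 𝒜 ℳ).carrier := ‹Module.Finite R M›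
  haveI : Module.Finite S (bun ℬ 𝒩).carrier := ‹Module.Finite S N›
  haveI : Module.Finite T (bun 𝒯 𝒬).carrier := ‹Module.Finite T P›
  -- vanishing for the factors
  have vR : ∀ (q : ℕ) (n : ℤ), q ≠ r → Van aR (bun 𝒜 ℳ) q n := by
    intro q n hq
    rcases lt_or_gt_of_ne hq with h | h
    · exact van_of_cm_mod 𝒜 ℳ hposR h0R hMcm aR haR r hdM q h n
    · exact van_of_supportDim_lt 𝒜 ℳ aR r hdM.le q h n
  have vS : ∀ (q : ℕ) (n : ℤ), q ≠ s → Van aS (bun ℬ 𝒩) q n := by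
    intro q n hq
    rcases lt_or_gt_of_ne hq with h | h
    · exact van_of_cm_mod ℬ 𝒩 hposS h0S hNcm aS haS s hdN q h n
    · exact van_of_supportDim_lt ℬ 𝒩 aS s hdN.le q h n
  -- abbreviations for the dimensions
  set fR : ℕ → ℤ → ℕ := fun q n => Module.finrank (GrLC.deg0 (toAG 𝒜)) (LCp aR (bun 𝒜 ℳ) q n)
    with hfR
  set fS : ℕ → ℤ → ℕ := fun q n => Module.finrank (GrLC.deg0 (toAG ℬ)) (LCp aS (bun ℬ 𝒩) q n)
    with hfS
  set fT : ℕ → ℤ → ℕ := fun q n => Module.finrank (GrLC.deg0 (toAG 𝒯)) (LCp aT (bun 𝒯 𝒬) q n)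
    with hfT
  set fA : ℤ → ℕ := fun n =>
    Module.finrank (GrLC.deg0 (toAG 𝒜)) ↥(GrLC.comp (toAG 𝒜) (bun 𝒜 ℳ).gr n) with hfA
  set fB : ℤ → ℕ := fun n =>
    Module.finrank (GrLC.deg0 (toAG ℬ)) ↥(GrLC.comp (toAG ℬ) (bun ℬ 𝒩).gr n) with hfB
  have fR_zero : ∀ (q : ℕ) (n : ℤ), q ≠ r → fR q n = 0 := fun q n hq =>
    finrank_lcp_eq_zero_of_van (toAG 𝒜) aR (bun 𝒜 ℳ) q n (vR q n hq)
  have fS_zero : ∀ (q : ℕ) (n : ℤ), q ≠ s → fS q n = 0 := fun q n hq =>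
    finrank_lcp_eq_zero_of_van (toAG ℬ) aS (bun ℬ 𝒩) q n (vS q n hq)
  -- the Künneth formula
  have kun : ∀ (q : ℕ) (n : ℤ), fT q n = fA n * fS q n + fR q n * fB n +
      ∑ i ∈ Finset.range (q + 2), fR i n * fS (q + 1 - i) n := by
    intro q n
    have key := seg_kunneth_lcp ψ hT h0R' h0S' h0T' (bun 𝒜 ℳ) (bun ℬ 𝒩) aR haR aS haS aT haT n
      (vR 0 n (by omega)) (vR 1 n (by omega)) (vS 0 n (by omega)) (vS 1 n (by omega)) q
    have hgr := segEquiv_gr 𝒜 ℬ ψ hT ℳ 𝒩 𝒬 φ hP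
    have e1 := (piso_of_equiv aT (bun 𝒯 𝒬) (SegM ψ hT (bun 𝒜 ℳ) (bun ℬ 𝒩))
      (segEquiv 𝒜 ℬ ψ hT ℳ 𝒩 𝒬 φ hP) hgr
      (isGrHom_symm _ _ _ hgr) q n).finrank_eq
    exact e1.trans key
  -- the formula below the dimension
  have kun' : ∀ (q : ℕ) (n : ℤ), q < r + s - 1 → fT q n = fA n * fS q n + fR q n * fB n := by
    intro q n hq
    rw [kun q n, Nat.add_eq_left]
    apply Finset.sum_eq_zero
    intro i _
    by_cases hi : i = r
    · rw [fS_zero (q + 1 - i) n (by omega), mul_zero]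
    · rw [fR_zero i n hi, zero_mul]
  -- translation of the conditions
  have cA : ∀ n : ℤ, fA n = 0 ↔ ℳ n = ⊥ := fun n => finrank_comp_eq_zero_iff_mod 𝒜 ℳ fR0 n
  have cB : ∀ n : ℤ, fB n = 0 ↔ 𝒩 n = ⊥ := fun n => finrank_comp_eq_zero_iff_mod ℬ 𝒩 fS0 n
  refine ⟨hdimP, fun q n hq => ?_⟩
  have cT : Van aT (bun 𝒯 𝒬) q n ↔ fT q n = 0 :=
    ⟨finrank_lcp_eq_zero_of_van (toAG 𝒯) aT (bun 𝒯 𝒬) q n,
      van_of_finrank_lcp_eq_zero (toAG 𝒯) fT0 aT haT (bun 𝒯 𝒬) q n⟩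
  have cR : Van aR (bun 𝒜 ℳ) q n ↔ fR q n = 0 :=
    ⟨finrank_lcp_eq_zero_of_van (toAG 𝒜) aR (bun 𝒜 ℳ) q n,
      van_of_finrank_lcp_eq_zero (toAG 𝒜) fR0 aR haR (bun 𝒜 ℳ) q n⟩
  have cS : Van aS (bun ℬ 𝒩) q n ↔ fS q n = 0 :=
    ⟨finrank_lcp_eq_zero_of_van (toAG ℬ) aS (bun ℬ 𝒩) q n,
      van_of_finrank_lcp_eq_zero (toAG ℬ) fS0 aS haS (bun ℬ 𝒩) q n⟩
  rw [cT, cR, cS, kun' q n hq, Nat.add_eq_zero_iff, Nat.mul_eq_zero, Nat.mul_eq_zero, cA, cB]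

include hT hP in
/-- **the graded local cohomology of the Segre product of a graded Cohen–Macaulay module of
dimension one with a graded Cohen–Macaulay module of dimension `s ≥ 1`, below the dimension** -/
theorem segre_mod_dim_one_van (hposR : ∀ n : ℤ, n < 0 → 𝒜 n = ⊥)
    (h0R : 𝒜 0 = Submodule.span k {(1 : R)}) [Algebra.FiniteType k R]
    (hposS : ∀ n : ℤ, n < 0 → ℬ n = ⊥) (h0S : ℬ 0 = Submodule.span k {(1 : S)})
    [Algebra.FiniteType k S] [IsNoetherianRing T] [SetLike.GradedSMul 𝒯 𝒬]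
    [Module.Finite R M] [Module.Finite S N] [Module.Finite T P] [Nontrivial P]
    (aR : HomogeneousIdeal (toAG 𝒜))
    (haR : aR.toIdeal = Ideal.span (⋃ n ∈ Set.Ioi (0 : ℤ), (toAG 𝒜 n : Set R)))
    (aS : HomogeneousIdeal (toAG ℬ))
    (haS : aS.toIdeal = Ideal.span (⋃ n ∈ Set.Ioi (0 : ℤ), (toAG ℬ n : Set S)))
    (aT : HomogeneousIdeal (toAG 𝒯))
    (haT : aT.toIdeal = Ideal.span (⋃ n ∈ Set.Ioi (0 : ℤ), (toAG 𝒯 n : Set T)))
    (s : ℕ) (h1s : 1 ≤ s)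
    (hdM : Module.supportDim R M = ((1 : ℕ) : WithBot ℕ∞))
    (hdN : Module.supportDim S N = s)
    (hMcm : ∀ (q : Ideal R) [q.IsPrime], Subsingleton (LocalizedModule q.primeCompl M) ∨
      LocCoh.IsCohenMacaulayModule (Localization.AtPrime q) (LocalizedModule q.primeCompl M))
    (hNcm : ∀ (q : Ideal S) [q.IsPrime], Subsingleton (LocalizedModule q.primeCompl N) ∨
      LocCoh.IsCohenMacaulayModule (Localization.AtPrime q) (LocalizedModule q.primeCompl N)) :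
    Module.supportDim T P = (s : WithBot ℕ∞) ∧ (∀ n : ℤ, Van aT (bun 𝒯 𝒬) 0 n) ∧
      (∀ n : ℤ, Van aT (bun 𝒯 𝒬) 1 n → 𝒩 n ≠ ⊥ → Van aR (bun 𝒜 ℳ) 1 n) ∧
      (2 ≤ s → ∀ n : ℤ, (Van aR (bun 𝒜 ℳ) 1 n ∨ 𝒩 n = ⊥) → Van aT (bun 𝒯 𝒬) 1 n) ∧
      (∀ (q : ℕ) (n : ℤ), 2 ≤ q → q < s → Van aT (bun 𝒯 𝒬) q n) := by
  classical
  haveI : Nontrivial M := nontrivial_of_supportDim hdM
  haveI : Nontrivial N := nontrivial_of_supportDim hdN
  haveI : Nontrivial R := Module.nontrivial R M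
  haveI : Nontrivial S := Module.nontrivial S N
  haveI : IsNoetherianRing R := Algebra.FiniteType.isNoetherianRing k R
  haveI : IsNoetherianRing S := Algebra.FiniteType.isNoetherianRing k S
  haveI : Nontrivial T := nontrivial_of_segre ψ
  have hposT := segre_pos 𝒜 ℬ 𝒯 ψ hT hposR
  have h0T := segre_zero 𝒜 ℬ 𝒯 ψ hT h0R h0S
  have h0R' := h0_of_span h0R
  have h0S' := h0_of_span h0S
  have h0T' := h0T_of_segre ψ hT h0R h0S
  have fT0 := isField_deg0 𝒯 h0T'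
  have hinjR : Function.Injective (algebraMap k R) := (algebraMap k R).injective
  have hinjS : Function.Injective (algebraMap k S) := (algebraMap k S).injective
  have hinjT : Function.Injective (algebraMap k T) := (algebraMap k T).injective
  have hdimP0 : Module.supportDim T P = ((1 + s - 1 : ℕ) : WithBot ℕ∞) := by
    rcases SegMod.supportDim_segre_of_cm ℳ 𝒩 hposR h0R hposS h0S 𝒯 ψ hT 𝒬 φ hP 1 s
      le_rfl h1s hdM hdN hMcm hNcm with h | h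
    · exact h
    · exact absurd h (not_subsingleton P)
  have hdimP : Module.supportDim T P = (s : WithBot ℕ∞) := by
    rw [hdimP0, Nat.add_sub_cancel_left]
  haveI : Module.Finite R (bun 𝒜 ℳ).carrier := ‹Module.Finite R M›
  haveI : Module.Finite S (bun ℬ 𝒩).carrier := ‹Module.Finite S N›
  haveI : Module.Finite T (bun 𝒯 𝒬).carrier := ‹Module.Finite T P›
  haveI : Module.Finite T (SegM ψ hT (bun 𝒜 ℳ) (bun ℬ 𝒩)).carrier :=
    Module.Finite.equiv (segEquiv 𝒜 ℬ ψ hT ℳ 𝒩 𝒬 φ hP)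
  -- vanishing for the factors
  have vR : ∀ (q : ℕ) (n : ℤ), q ≠ 1 → Van aR (bun 𝒜 ℳ) q n := by
    intro q n hq
    rcases lt_or_gt_of_ne hq with h | h
    · exact van_of_cm_mod 𝒜 ℳ hposR h0R hMcm aR haR 1 hdM q h n
    · exact van_of_supportDim_lt 𝒜 ℳ aR 1 hdM.le q h n
  have vS : ∀ (q : ℕ) (n : ℤ), q ≠ s → Van aS (bun ℬ 𝒩) q n := by
    intro q n hq
    rcases lt_or_gt_of_ne hq with h | h
    · exact van_of_cm_mod ℬ 𝒩 hposS h0S hNcm aS haS s hdN q h n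
    · exact van_of_supportDim_lt ℬ 𝒩 aS s hdN.le q h n
  -- the Čech complexes
  obtain ⟨xs, hxs1, hxs2⟩ := exists_list_gens_pos aR haR
  obtain ⟨ys, hys1, hys2⟩ := exists_list_gens_pos aS haS
  obtain ⟨KM⟩ := CPack.nonempty_cpack (bun 𝒜 ℳ) xs hxs1
  obtain ⟨KN⟩ := CPack.nonempty_cpack (bun ℬ 𝒩) ys hys1
  have haR' : aR.toIdeal ≤ Ideal.span {y | y ∈ xs} := hxs2.le
  have haS' : aS.toIdeal ≤ Ideal.span {y | y ∈ ys} := hys2.le
  have hposR' : ∀ e : ℤ, 0 < e → ∀ x ∈ toAG 𝒜 e, x ∈ aR.toIdeal := by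
    intro e he x hx
    rw [haR]
    exact Ideal.subset_span (Set.mem_iUnion₂.mpr ⟨e, he, hx⟩)
  have hposS' : ∀ e : ℤ, 0 < e → ∀ x ∈ toAG ℬ e, x ∈ aS.toIdeal := by
    intro e he x hx
    rw [haS]
    exact Ideal.subset_span (Set.mem_iUnion₂.mpr ⟨e, he, hx⟩)
  have hposT' : ∀ e : ℤ, 0 < e → ∀ x ∈ toAG 𝒯 e, x ∈ aT.toIdeal := by
    intro e he x hx
    rw [haT]
    exact Ideal.subset_span (Set.mem_iUnion₂.mpr ⟨e, he, hx⟩)
  have hxs : ∀ e : ℤ, 0 < e → ∀ x ∈ toAG 𝒜 e, x ∈ Ideal.span {y | y ∈ xs} :=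
    fun e he x hx => haR' (hposR' e he x hx)
  have hys : ∀ e : ℤ, 0 < e → ∀ x ∈ toAG ℬ e, x ∈ Ideal.span {y | y ∈ ys} :=
    fun e he x hx => haS' (hposS' e he x hx)
  have haG : aT.toIdeal ≤
      Ideal.span {t : T | ∃ e : ℤ, 0 < e ∧ ∃ x ∈ 𝒜 e, ∃ y ∈ ℬ e, ψ t = x ⊗ₜ[k] y} := by
    rw [haT]
    exact irrelevant_le_span ψ hT
  -- transfer between the abstract and the concrete Segre product
  have hgr := segEquiv_gr 𝒜 ℬ ψ hT ℳ 𝒩 𝒬 φ hP
  have toT : ∀ (q : ℕ) (n : ℤ), Van aT (SegM ψ hT (bun 𝒜 ℳ) (bun ℬ 𝒩)) q n →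
      Van aT (bun 𝒯 𝒬) q n := fun q n h =>
    van_of_equiv aT (SegM ψ hT (bun 𝒜 ℳ) (bun ℬ 𝒩)) (bun 𝒯 𝒬)
      (segEquiv 𝒜 ℬ ψ hT ℳ 𝒩 𝒬 φ hP).symm
      (fun g x hx => hgr g x hx) q n h
  have fromT : ∀ (q : ℕ) (n : ℤ), Van aT (bun 𝒯 𝒬) q n →
      Van aT (SegM ψ hT (bun 𝒜 ℳ) (bun ℬ 𝒩)) q n := fun q n h =>
    van_of_equiv aT (bun 𝒯 𝒬) (SegM ψ hT (bun 𝒜 ℳ) (bun ℬ 𝒩))
      (segEquiv 𝒜 ℬ ψ hT ℳ 𝒩 𝒬 φ hP)
      (isGrHom_symm _ _ _ hgr) q n h
  -- the Čech form of the vanishing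
  have H0M := fun n : ℤ => KM.H0_of_van aR haR' hposR' n (vR 0 n (by omega))
  have H0N := fun n : ℤ => KN.H0_of_van aS haS' hposS' n (vS 0 n (by omega))
  have vT0 : ∀ n : ℤ, Van aT (bun 𝒯 𝒬) 0 n := fun n =>
    toT 0 n (seg_van_zero ψ hT KM KN hxs hys aT haG hposT' n (H0M n) (H0N n))
  refine ⟨hdimP, vT0, fun n hvT hB => ?_, fun h2s n hcond => ?_, fun q n h2q hqs => ?_⟩
  · -- necessity
    obtain ⟨v0, hv0, hv0ne⟩ : ∃ v ∈ 𝒩 n, v ≠ 0 := by
      by_contra hcon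
      push Not at hcon
      exact hB ((AddSubgroup.eq_bot_iff_forall _).mpr hcon)
    have hvS := fromT 1 n hvT
    have hw0d : KN.φ (ofM ℬ 𝒩 v0) ∈ KN.T.gr n := KN.φ_gr n _ hv0
    have hw0p : KN.p 0 (KN.φ (ofM ℬ 𝒩 v0)) = KN.φ (ofM ℬ 𝒩 v0) := KN.p0_φ _
    have hw0ne : KN.φ (ofM ℬ 𝒩 v0) ≠ 0 := fun h =>
      hv0ne (KN.φ_inj (h.trans (map_zero KN.φ).symm))
    have H1M : ∀ u : KM.T.carrier, u ∈ KM.T.gr n → KM.p 1 u = u → KM.D u = 0 →
        ∃ u0 : KM.T.carrier, u0 ∈ KM.T.gr n ∧ KM.p 0 u0 = u0 ∧ KM.D u0 = u :=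
      fun u hud hup huD => seg_H1_of_van_one ψ hT KM KN hxs hys aT haG hposT' n hvS (H0N n)
        _ hw0d hw0p hw0ne u hud hup huD
    exact KM.van_one_of_H1 aR haR' hposR' n H1M
  · -- sufficiency in cohomological degree one
    have H1N := KN.H1_of_van aS haS' hposS' n (vS 1 n (by omega))
    rcases hcond with hvR | h
    · have H1M := KM.H1_of_van aR haR' hposR' n hvR
      exact toT 1 n (seg_van_one ψ hT KM KN hxs hys aT haG hposT' n H1M H1N)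
    · have hX : ∀ x : (bun ℬ 𝒩).carrier, x ∈ (bun ℬ 𝒩).gr n → x = 0 := by
        intro x hx
        have hx' : toM ℬ 𝒩 x ∈ 𝒩 n := hx
        rw [h, AddSubgroup.mem_bot] at hx'
        exact hx'
      have ZN := KN.Z1_zero n hX H1N
      exact toT 1 n (seg_van_one_of_Z1 ψ hT KM KN hxs hys aT haG hposT' n ZN)
  · -- higher cohomological degrees
    obtain ⟨q', rfl⟩ : ∃ q', q = q' + 2 := ⟨q - 2, by omega⟩
    apply toT
    apply van_of_finrank_lcp_eq_zero (toAG 𝒯) fT0 aT haT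
    apply seg_finrank_zero_of_subsingleton ψ hT KM KN hxs hys aT haG hposT' n q' h0T' hinjT
    intro x hx
    have hsum : x.1 + x.2 = q' + 3 := Finset.HasAntidiagonal.mem_antidiagonal.mp hx
    by_cases hx0 : x.1 = 0
    · left
      rw [hx0]
      exact KM.subsingleton_ddgs_Hq_zero n
    · by_cases hx1 : x.1 = 1
      · right
        have hx2 : x.2 = q' + 2 := by omega
        rw [hx2]
        exact KN.subsingleton_ddgs_Hq_of_van aS haS' hposS' n q' h0S' hinjS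
          (vS (q' + 2) n (by omega))
      · left
        obtain ⟨i, hi⟩ : ∃ i, x.1 = i + 2 := ⟨x.1 - 2, by omega⟩
        rw [hi]
        exact KM.subsingleton_ddgs_Hq_of_van aR haR' hposR' n i h0R' hinjR
          (vR (i + 2) n (by omega))

end SegreMod

end Groth.Agent.Lib.Helper6.SegCM
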