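import Mathlib
import Groth.Prelude.Def_GrLC
import Groth.Prelude.Def_GrSyz
import Groth.Prelude.Def_GrSeg
import Groth.Prelude.Def_CAlg
import Groth.Agent.S13215
import Groth.Agent.Lib.Helper8.CplMap3
import Groth.Agent.Lib.Helper8.Depth19
import Groth.Agent.Lib.Helper8.Depth31
import Groth.Agent.Lib.Helper8.LC18
import Groth.Agent.Lib.Helper9.GrLC.Pull
import Groth.Agent.Lib.Helper9.GrLC.Van
import Groth.Agent.Lib.Helper6.HilbDim.HDb
import Groth.Agent.Lib.Helper6.CMReg.CRm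
import Groth.Agent.Lib.Helper6.CMReg.CRu
import Groth.Agent.Lib.Helper6.CMReg.CRw
import Groth.Agent.Lib.Helper6.SegCM.MCc

set_option autoImplicit false
set_option linter.unusedSectionVars false
set_option linter.unusedVariables false
set_option linter.unusedSimpArgs false
set_option linter.style.haveILetI false
set_option linter.overlappingInstances false
set_option maxHeartbeats 800000

/-!
# Shifted gradings and the graded local cohomology of the standard graded polynomial ring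
(helper6)
-/

universe u

namespace Groth.Agent.Lib.Helper6.SegCM

open scoped TensorProduct
open CategoryTheory DirectSum Groth.Agent.Helper9.GrLCLib Groth.Agent.Helper9.GrLCLib.Trans
open Groth.Agent.Helper8.LC Groth.Agent.Helper9 Groth.Agent.Helper8
open Groth.Agent.Lib.Helper6.CMReg Groth.Agent.Lib.Helper6.SegK Groth.Agent.Lib.Helper6.SegDim
open Groth.Agent.Helper9.SegreLib Groth.Agent.Lib.Helper6.HilbDim
open Groth.Agent.Lib.Helper6

section General

/-- a Cohen–Macaulay ring is a Cohen–Macaulay module over itself at every prime -/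
theorem cm_self_of_isCohenMacaulayRing (R : Type u) [CommRing R] [LocCoh.IsCohenMacaulayRing R]
    (q : Ideal R) [q.IsPrime] :
    LocCoh.IsCohenMacaulayModule (Localization.AtPrime q) (LocalizedModule q.primeCompl R) := by
  unfold LocCoh.IsCohenMacaulayModule
  rw [Depth.supportDim_localizedModule_self R q, Depth.depth_localizedModule_self q]
  have hCM : LocCoh.IsCohenMacaulayRing R := inferInstance
  have h1 := hCM.isCohenMacaulayLocalRing_localization q
  have h2 := h1.supportDim_eq_depth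
  rw [Depth.supportDim_localization_self] at h2
  exact h2

lemma withBot_lt_of_add_one_le {D : WithBot ℕ∞} {n : ℕ} (h : D + 1 ≤ ((n : ℕ) : WithBot ℕ∞)) :
    D < ((n : ℕ) : WithBot ℕ∞) := by
  induction D using WithBot.recBotCoe with
  | bot => exact_mod_cast WithBot.bot_lt_coe (n : ℕ∞)
  | coe D =>
    have h' : D + 1 ≤ (n : ℕ∞) := by exact_mod_cast h
    have hD : D ≠ ⊤ := ne_top_of_le_ne_top (ENat.natCast_ne_top n) (le_self_add.trans h')
    lift D to ℕ using hD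
    have h'' : D + 1 ≤ n := by exact_mod_cast h'
    have h3 : D < n := by omega
    exact_mod_cast h3

lemma tmul_ne_zero_of_ne_zero {k : Type u} [Field k] {U V : Type u} [AddCommGroup U] [Module k U]
    [AddCommGroup V] [Module k V] {u : U} {v : V} (hu : u ≠ 0) (hv : v ≠ 0) :
    u ⊗ₜ[k] v ≠ 0 := by
  have hinj : LinearMap.ker (LinearMap.toSpanSingleton k V v) = ⊥ :=
    LinearMap.ker_toSpanSingleton k hv
  obtain ⟨g, hg⟩ := LinearMap.exists_leftInverse_of_injective _ hinj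
  intro h
  have h1 := congrArg (fun w => TensorProduct.rid k U (TensorProduct.map LinearMap.id g w)) h
  simp only [TensorProduct.map_tmul, LinearMap.id_apply, TensorProduct.rid_tmul, map_zero] at h1
  have h2 : g v = 1 := by
    have h3 := LinearMap.congr_fun hg 1
    simpa [LinearMap.toSpanSingleton_apply] using h3
  rw [h2, one_smul] at h1
  exact hu h1

variable {R : Type u} [CommRing R] [IsNoetherianRing R] (𝒜 : ℤ → AddSubgroup R) [GradedRing 𝒜]

lemma eq_irrel_of_toIdeal (a : HomogeneousIdeal 𝒜)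
    (ha : a.toIdeal = Ideal.span (⋃ n ∈ Set.Ioi (0 : ℤ), (𝒜 n : Set R))) :
    a = GrSyz.irrel 𝒜 := by
  apply HomogeneousIdeal.toIdeal_injective
  rw [irrel_toIdeal]
  exact ha

/-- vanishing propagates upwards along multiplication by a regular homogeneous element when the
cohomology of the quotient vanishes -/
theorem van_succ_of_regular (a : HomogeneousIdeal 𝒜) (X : GrLC.GMod.{u} 𝒜) (d : ℤ) (x : R)
    (hx : x ∈ 𝒜 d) (hreg : Function.Injective (Van.mulMap 𝒜 X d x)) (q : ℕ)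
    (hsub : Subsingleton (LocCoh.H a.toIdeal q (Van.Qx 𝒜 X d x hx).carrier)) (k : ℤ)
    (h : Van a X q (k - d)) : Van a X q k :=
  van_mid_of_subsingleton a (shiftGMod X d) X (Van.mulMap 𝒜 X d x) (Van.qxMap 𝒜 X d x hx)
    (Van.qxMap_comp_mulMap 𝒜 X d x hx) (Van.mulSES_shortExact 𝒜 X d x hx hreg)
    (Van.isGrHom_mulMap 𝒜 X d x hx) q k (van_shift a X d q k h) hsub

/-- the dimension drops modulo a homogeneous nonzerodivisor -/
theorem supportDim_Qx_lt (X : GrLC.GMod.{u} 𝒜) [Module.Finite R X.carrier] (d : ℤ) (x : R)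
    (hx : x ∈ 𝒜 d) (hnzd : x ∈ nonZeroDivisors R) (n : ℕ) (hdim : ringKrullDim R = n) :
    Module.supportDim R (Van.Qx 𝒜 X d x hx).carrier < ((n : ℕ) : WithBot ℕ∞) := by
  have hsurj := Van.qxMap_surjective 𝒜 X d x hx
  haveI : Module.Finite R (Van.Qx 𝒜 X d x hx).carrier :=
    Module.Finite.of_surjective (Van.qxMap 𝒜 X d x hx) hsurj
  rw [Module.supportDim_eq_ringKrullDim_quotient_annihilator]
  have hann : Ideal.span {x} ≤ Module.annihilator R (Van.Qx 𝒜 X d x hx).carrier := by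
    rw [Ideal.span_le, Set.singleton_subset_iff, SetLike.mem_coe, Module.mem_annihilator]
    intro m
    obtain ⟨m', rfl⟩ := hsurj m
    rw [← map_smul]
    have h1 : x • m' ∈ LinearMap.ker (Van.qxMap 𝒜 X d x hx) := by
      rw [Van.ker_qxMap]
      exact ⟨m', rfl⟩
    exact h1
  have h1 : ringKrullDim (R ⧸ Module.annihilator R (Van.Qx 𝒜 X d x hx).carrier) ≤
      ringKrullDim (R ⧸ Ideal.span {x}) :=
    ringKrullDim_le_of_surjective (Ideal.Quotient.factor hann)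
      (Ideal.Quotient.factor_surjective hann)
  have h2 := ringKrullDim_quotient_succ_le_of_nonZeroDivisor hnzd
  rw [hdim] at h2
  exact lt_of_le_of_lt h1 (withBot_lt_of_add_one_le h2)

end General

section Shift

variable {k : Type u} [Field k] {R : Type u} [CommRing R] [Algebra k R]
  (𝒜 : ℤ → Submodule k R) [GradedAlgebra 𝒜] (a : ℤ)

/-- the pieces of the shifted module `R(a)` -/
noncomputable def shf : ℤ → AddSubgroup R := pullFam (toAG 𝒜) (LinearMap.id : R →ₗ[R] R) (-a)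

lemma mem_shf {n : ℤ} {x : R} : x ∈ shf 𝒜 a n ↔ x ∈ 𝒜 (n + a) := by
  unfold shf
  rw [mem_pullFam, sub_neg_eq_add]
  exact Iff.rfl

noncomputable instance shfDec : DirectSum.Decomposition (shf 𝒜 a) :=
  pullDecomposition (toAG 𝒜) (LinearMap.id : R →ₗ[R] R) (-a) Function.injective_id
    (fun _ _ => ⟨_, rfl⟩)

instance shfGsm : SetLike.GradedSMul 𝒜 (shf 𝒜 a) :=
  haveI : SetLike.GradedSMul (toAG 𝒜) (shf 𝒜 a) :=
    pullGradedSMul (toAG 𝒜) (toAG 𝒜) (LinearMap.id : R →ₗ[R] R) (-a)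
  gsmulOfAG 𝒜 (shf 𝒜 a)

lemma shf_eq_bot_iff (n : ℤ) : shf 𝒜 a n = ⊥ ↔ 𝒜 (n + a) = ⊥ := by
  rw [AddSubgroup.eq_bot_iff_forall, Submodule.eq_bot_iff]
  exact ⟨fun h x hx => h x ((mem_shf 𝒜 a).mpr hx), fun h x hx => h x ((mem_shf 𝒜 a).mp hx)⟩

/-- the graded local cohomology of a shifted module -/
theorem van_shf_iff [IsNoetherianRing R] (aR : HomogeneousIdeal (toAG 𝒜)) (q : ℕ) (n : ℤ) :
    Van aR (bun 𝒜 (shf 𝒜 a)) q n ↔ Van aR (bun 𝒜 𝒜) q (n + a) := by
  constructor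
  · intro h
    refine van_of_retract aR (bun 𝒜 (shf 𝒜 a)) (bun 𝒜 𝒜) (LinearMap.id : R →ₗ[R] R)
      (LinearMap.id : R →ₗ[R] R) rfl (-a) ?_ q (n + a) ?_
    · intro g x hx
      have hx' : toM 𝒜 𝒜 x ∈ 𝒜 g := hx
      have h2 : toM 𝒜 𝒜 x ∈ shf 𝒜 a (g + -a) := by
        rw [mem_shf, neg_add_cancel_right]
        exact hx'
      exact h2
    · rw [add_neg_cancel_right]
      exact h
  · intro h
    refine van_of_retract aR (bun 𝒜 𝒜) (bun 𝒜 (shf 𝒜 a)) (LinearMap.id : R →ₗ[R] R)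
      (LinearMap.id : R →ₗ[R] R) rfl a ?_ q n h
    intro g x hx
    have hx' : toM 𝒜 (shf 𝒜 a) x ∈ shf 𝒜 a g := hx
    rw [mem_shf] at hx'
    exact hx'

end Shift

section ShiftSeg

variable {k : Type u} [Field k] {R S T : Type u} [CommRing R] [CommRing S] [CommRing T]
  [Algebra k R] [Algebra k S] [Algebra k T]
  (𝒜 : ℤ → Submodule k R) (ℬ : ℤ → Submodule k S) [GradedAlgebra 𝒜] [GradedAlgebra ℬ]
  (a b : ℤ) {ψ : T →ₐ[k] R ⊗[k] S}
  {P : Type u} [AddCommGroup P] [Module T P] [Module k P] [IsScalarTower k T P]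
  {𝒬 : ℤ → AddSubgroup P} [DirectSum.Decomposition 𝒬] {φ : P →ₗ[k] R ⊗[k] S}

lemma isSegreMod_shf
    (hP : GrSeg.IsSegreMod ψ (fun n : ℤ => 𝒜 (n + a)) (fun n : ℤ => ℬ (n + b)) 𝒬 φ) :
    GrSeg.IsSegreMod ψ (shf 𝒜 a) (shf ℬ b) 𝒬 φ := by
  refine ⟨hP.injective, fun n => ?_, hP.map_smul⟩
  have hpiece : GrSeg.segrePiece k (fun n : ℤ => 𝒜 (n + a)) (fun n : ℤ => ℬ (n + b)) n =
      GrSeg.segrePiece k (shf 𝒜 a) (shf ℬ b) n := by
    unfold GrSeg.segrePiece
    congr 1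
    ext x
    constructor
    · rintro ⟨u, hu, v, hv, rfl⟩
      exact ⟨u, (mem_shf 𝒜 a).mpr hu, v, (mem_shf ℬ b).mpr hv, rfl⟩
    · rintro ⟨u, hu, v, hv, rfl⟩
      exact ⟨u, (mem_shf 𝒜 a).mp hu, v, (mem_shf ℬ b).mp hv, rfl⟩
  rw [hP.image_piece n, hpiece]

end ShiftSeg

section Std

variable (k : Type u) [Field k] (n : ℕ)

local notation "S" => MvPolynomial (Fin n) k
local notation "𝒜₀" => GrSyz.stdGr k (Fin n)

lemma std_dim : ringKrullDim S = ((n : ℕ) : WithBot ℕ∞) := by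
  rw [MvPolynomial.ringKrullDim_of_isNoetherianRing, ringKrullDim_eq_zero_of_field, zero_add,
    Nat.card_fin]

lemma std_supportDim : Module.supportDim S S = ((n : ℕ) : WithBot ℕ∞) := by
  rw [Module.supportDim_self_eq_ringKrullDim, std_dim]

instance std_cm : LocCoh.IsCohenMacaulayRing S :=
  CplMap.isCohenMacaulayRing_of_isRegularRing _

lemma std_cm_mod (q : Ideal S) [q.IsPrime] :
    Subsingleton (LocalizedModule q.primeCompl S) ∨
      LocCoh.IsCohenMacaulayModule (Localization.AtPrime q) (LocalizedModule q.primeCompl S) :=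
  Or.inr (cm_self_of_isCohenMacaulayRing S q)

lemma std_hstd : Ideal.span (⋃ m ∈ Set.Ioi (0 : ℤ), (toAG 𝒜₀ m : Set S)) =
    Ideal.span ((toAG 𝒜₀ 1 : AddSubgroup S) : Set S) := by
  apply le_antisymm
  · have h1 : Ideal.span (⋃ m ∈ Set.Ioi (0 : ℤ), (toAG 𝒜₀ m : Set S)) =
        Ideal.ofList (List.ofFn (MvPolynomial.X : Fin n → S)) :=
      (irrel_toIdeal (toAG 𝒜₀)).symm.trans (irrel_eq_ofList k n)
    rw [h1]
    unfold Ideal.ofList
    rw [Ideal.span_le]
    intro y hy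
    obtain ⟨i, rfl⟩ := (List.mem_ofFn' _ _).mp hy
    exact Ideal.subset_span (MvPolynomial.isWeightedHomogeneous_X k (fun _ : Fin n => (1 : ℤ)) i)
  · apply Ideal.span_mono
    intro x hx
    exact Set.mem_iUnion₂.mpr ⟨1, Set.mem_Ioi.mpr one_pos, hx⟩

lemma idealToAG_irrel : idealToAG 𝒜₀ (GrSyz.irrel 𝒜₀) = GrSyz.irrel (toAG 𝒜₀) :=
  HomogeneousIdeal.toIdeal_injective rfl

/-- vanishing above the diagonal -/
lemma van_std_pos (q : ℕ) (j : ℤ) (hj : 0 < j + q) :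
    Van (GrSyz.irrel (toAG 𝒜₀)) (bun 𝒜₀ 𝒜₀) q j := by
  have h := van_poly k n q j hj
  rw [idealToAG_irrel] at h
  exact h

/-- nonvanishing of the top local cohomology in degree `-n` -/
theorem not_van_std_neg : ¬ Van (GrSyz.irrel (toAG 𝒜₀)) (bun 𝒜₀ 𝒜₀) n (-(n : ℤ)) := by
  intro hv
  have hpos : ∀ m : ℤ, m < 0 → toAG 𝒜₀ m = ⊥ := toAG_eq_bot 𝒜₀ (stdGr_neg k (Fin n))
  have h0' : ∀ r ∈ 𝒜₀ 0, ∃ c : k, algebraMap k S c = r := h0_of_span (stdGr_zero k (Fin n))
  have h0f : IsField (GrLC.deg0 (toAG 𝒜₀)) := isField_deg0 𝒜₀ h0'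
  letI : Field (GrLC.deg0 (toAG 𝒜₀)) := h0f.toField
  have hm := isStarLocal_irrel (toAG 𝒜₀) hpos h0f
  let I := Groth.Agent.S13215.Aux.res (toAG 𝒜₀) (toAG 𝒜₀)
  have h1 := main_17771 S (toAG 𝒜₀) hpos (std_hstd k n) (GrSyz.irrel (toAG 𝒜₀)) hm n (std_dim k n) I
  have h2 : GrLC.endDeg (I.Hgr (GrSyz.irrel (toAG 𝒜₀)) n) ≤
      (((-(n : ℤ) - 1 : ℤ) : WithTop ℤ) : WithBot (WithTop ℤ)) := by
    apply (endDeg_le_iff _ _).mpr
    intro j hj
    have hvj : Van (GrSyz.irrel (toAG 𝒜₀)) (bun 𝒜₀ 𝒜₀) n j := by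
      rcases eq_or_lt_of_le (show -(n : ℤ) ≤ j by omega) with h | h
      · rw [← h]
        exact hv
      · exact van_std_pos k n n j (by omega)
    have h3 := (van_iff_hcomp (GrSyz.irrel (toAG 𝒜₀)) (toAG 𝒜₀) I n j).mp hvj
    rw [AddSubgroup.eq_bot_iff_forall]
    intro x hx
    exact h3 x hx
  have h3 := h1.trans h2
  rw [WithBot.coe_le_coe, WithTop.coe_le_coe] at h3
  omega

lemma van_std_succ (hn : 1 ≤ n) (j : ℤ)
    (h : Van (GrSyz.irrel (toAG 𝒜₀)) (bun 𝒜₀ 𝒜₀) n (j - 1)) :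
    Van (GrSyz.irrel (toAG 𝒜₀)) (bun 𝒜₀ 𝒜₀) n j := by
  have hx1 : (MvPolynomial.X ⟨0, by omega⟩ : S) ∈ toAG 𝒜₀ 1 :=
    MvPolynomial.isWeightedHomogeneous_X k (fun _ : Fin n => (1 : ℤ)) ⟨0, by omega⟩
  have hne : (MvPolynomial.X ⟨0, by omega⟩ : S) ≠ 0 := MvPolynomial.X_ne_zero _
  have hreg : Function.Injective
      (Van.mulMap (toAG 𝒜₀) (bun 𝒜₀ 𝒜₀) 1 (MvPolynomial.X ⟨0, by omega⟩ : S)) := by
    intro (u : S) (v : S) huv
    have h1 : (MvPolynomial.X ⟨0, by omega⟩ : S) * u =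
        (MvPolynomial.X ⟨0, by omega⟩ : S) * v := huv
    have h2 : (u : S) = v := mul_left_cancel₀ hne h1
    exact h2
  haveI : Module.Finite S (bun 𝒜₀ 𝒜₀).carrier := Module.Finite.self S
  refine van_succ_of_regular (toAG 𝒜₀) (GrSyz.irrel (toAG 𝒜₀)) (bun 𝒜₀ 𝒜₀) 1 _ hx1 hreg n ?_ j h
  apply subsingleton_of_supportDim_lt
  exact supportDim_Qx_lt (toAG 𝒜₀) (bun 𝒜₀ 𝒜₀) 1 _ hx1 (mem_nonZeroDivisors_of_ne_zero hne) n
    (std_dim k n)

/-- **the top graded local cohomology of the polynomial ring lives exactly in degrees `≤ -n`** -/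
theorem van_std_top_iff (hn : 1 ≤ n) (j : ℤ) :
    Van (GrSyz.irrel (toAG 𝒜₀)) (bun 𝒜₀ 𝒜₀) n j ↔ -(n : ℤ) < j := by
  constructor
  · intro hv
    by_contra hcon
    push Not at hcon
    have key : ∀ t : ℕ, Van (GrSyz.irrel (toAG 𝒜₀)) (bun 𝒜₀ 𝒜₀) n (j + (t : ℤ)) := by
      intro t
      induction t with
      | zero =>
        rw [Nat.cast_zero, add_zero]
        exact hv
      | succ t ih =>
        have h1 := van_std_succ k n hn (j + (t : ℤ) + 1) (by rw [add_sub_cancel_right]; exact ih)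
        rw [Nat.cast_succ, ← add_assoc]
        exact h1
    have h1 := key (-(n : ℤ) - j).toNat
    rw [Int.toNat_of_nonneg (by omega), add_sub_cancel] at h1
    exact not_van_std_neg k n h1
  · intro hj
    exact van_std_pos k n n j (by omega)

/-- the graded local cohomology of the standard graded polynomial ring -/
theorem van_std_iff (hn : 1 ≤ n) (q : ℕ) (j : ℤ) :
    Van (GrSyz.irrel (toAG 𝒜₀)) (bun 𝒜₀ 𝒜₀) q j ↔ (q = n → -(n : ℤ) < j) := by
  haveI : Nontrivial S := inferInstance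
  rcases lt_trichotomy q n with h | h | h
  · exact ⟨fun _ hq => absurd hq (by omega), fun _ =>
      van_of_cm_field 𝒜₀ (stdGr_neg k (Fin n)) (h0_of_span (stdGr_zero k (Fin n))) _
        (irrel_toIdeal (toAG 𝒜₀)) n (std_dim k n) q h j⟩
  · rw [h, van_std_top_iff k n hn j]
    exact ⟨fun h _ => h, fun h => h rfl⟩
  · exact ⟨fun _ hq => absurd hq (by omega), fun _ =>
      van_of_dim_lt (toAG 𝒜₀) _ (bun 𝒜₀ 𝒜₀) n (std_dim k n).le q h j⟩

lemma std_piece_ne_bot (hn : 1 ≤ n) (m : ℤ) (hm : 0 ≤ m) : 𝒜₀ m ≠ ⊥ := by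
  intro h
  have hX : (MvPolynomial.X ⟨0, by omega⟩ : S) ∈ 𝒜₀ 1 :=
    MvPolynomial.isWeightedHomogeneous_X k (fun _ : Fin n => (1 : ℤ)) ⟨0, by omega⟩
  have h1 := SetLike.pow_mem_graded m.toNat hX
  rw [nsmul_eq_mul, mul_one, Int.toNat_of_nonneg hm, h, Submodule.mem_bot] at h1
  exact pow_ne_zero _ (MvPolynomial.X_ne_zero _) h1

lemma std_piece_eq_bot_iff (hn : 1 ≤ n) (m : ℤ) : 𝒜₀ m = ⊥ ↔ m < 0 := by
  constructor
  · intro h
    by_contra hcon
    push Not at hcon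
    exact std_piece_ne_bot k n hn m hcon h
  · exact stdGr_neg k (Fin n) m

lemma std_exists_mem_ne_zero (hn : 1 ≤ n) (m : ℤ) (hm : 0 ≤ m) : ∃ u ∈ 𝒜₀ m, u ≠ 0 :=
  Submodule.exists_mem_ne_zero_of_ne_bot (std_piece_ne_bot k n hn m hm)

end Std

end Groth.Agent.Lib.Helper6.SegCM
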