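import Mathlib
import Groth.Prelude.Def_GrLC
import Groth.Prelude.Def_GrSyz
import Groth.Prelude.Def_GrSeg
import Groth.Prelude.Def_CAlg
import Groth.Agent.S19747
import Groth.Agent.Lib.Helper6.SegCM.MCd

set_option autoImplicit false
set_option linter.unusedSectionVars false
set_option linter.unusedVariables false
set_option linter.unusedSimpArgs false
set_option linter.style.haveILetI false
set_option linter.overlappingInstances false
set_option maxHeartbeats 1600000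

/-!
# Segre products of shifted polynomial rings (helper6)
-/

universe u

namespace Groth.Agent.Lib.Helper6.SegCM

open scoped TensorProduct
open CategoryTheory DirectSum Groth.Agent.Helper9.GrLCLib Groth.Agent.Helper9.GrLCLib.Trans
open Groth.Agent.Helper8.LC Groth.Agent.Helper9 Groth.Agent.Helper8
open Groth.Agent.Lib.Helper6.CMReg Groth.Agent.Lib.Helper6.SegK Groth.Agent.Lib.Helper6.SegDim
open Groth.Agent.Helper9.SegreLib Groth.Agent.Lib.Helper6.HilbDim
open Groth.Agent.Lib.Helper6 Groth.Agent.Lib.Helper6.SegMod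

section Poly

variable (k : Type u) [Field k] (r s : ℕ)

local notation "Rr" => MvPolynomial (Fin r) k
local notation "Ss" => MvPolynomial (Fin s) k
local notation "𝒜r" => GrSyz.stdGr k (Fin r)
local notation "ℬs" => GrSyz.stdGr k (Fin s)

/-- the Segre product of shifted polynomial rings is nonzero -/
lemma nontrivial_segre_shift (h1r : 1 ≤ r) (h1s : 1 ≤ s)
    {T : Type u} [CommRing T] [Algebra k T]
    (ψ : T →ₐ[k] Rr ⊗[k] Ss) (a b : ℤ)
    {P : Type u} [AddCommGroup P] [Module T P] [Module k P] [IsScalarTower k T P]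
    (𝒬 : ℤ → AddSubgroup P) [DirectSum.Decomposition 𝒬] (φ : P →ₗ[k] Rr ⊗[k] Ss)
    (hP : GrSeg.IsSegreMod ψ (shf 𝒜r a) (shf ℬs b) 𝒬 φ) : Nontrivial P := by
  have h1 : 0 ≤ max (-a) (-b) + a := by
    have := le_max_left (-a) (-b)
    omega
  have h2 : 0 ≤ max (-a) (-b) + b := by
    have := le_max_right (-a) (-b)
    omega
  obtain ⟨u, hu, hu0⟩ := std_exists_mem_ne_zero k r h1r _ h1
  obtain ⟨v, hv, hv0⟩ := std_exists_mem_ne_zero k s h1s _ h2
  obtain ⟨p, hp, hpe⟩ := exists_of_tmul hP ((mem_shf 𝒜r a).mpr hu) ((mem_shf ℬs b).mpr hv)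
  refine ⟨⟨p, 0, fun h => ?_⟩⟩
  rw [h, map_zero] at hpe
  exact tmul_ne_zero_of_ne_zero hu0 hv0 hpe.symm

/-- **the Segre product `R(a) # S(b)` of shifted polynomial rings in `r ≥ 2` and `s ≥ 2`
variables** -/
theorem segre_poly_shift (h2r : 2 ≤ r) (h2s : 2 ≤ s)
    (T : Type u) [CommRing T] [Algebra k T] (𝒯 : ℤ → Submodule k T) [GradedAlgebra 𝒯]
    (ψ : T →ₐ[k] Rr ⊗[k] Ss) (hT : GrSeg.IsSegreRing 𝒜r ℬs 𝒯 ψ)
    (mT : HomogeneousIdeal 𝒯)
    (hmT : mT.toIdeal = Ideal.span (⋃ n ∈ Set.Ioi (0 : ℤ), (𝒯 n : Set T)))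
    (a b : ℤ) (P : Type u) [AddCommGroup P] [Module T P] [Module k P] [IsScalarTower k T P]
    (𝒬 : ℤ → AddSubgroup P) [DirectSum.Decomposition 𝒬] (φ : P →ₗ[k] Rr ⊗[k] Ss)
    (hP : GrSeg.IsSegreMod ψ (fun n : ℤ => 𝒜r (n + a)) (fun n : ℤ => ℬs (n + b)) 𝒬 φ) :
    ((∀ (q : Ideal T) [q.IsPrime], Subsingleton (LocalizedModule q.primeCompl P) ∨
        LocCoh.IsCohenMacaulayModule (Localization.AtPrime q) (LocalizedModule q.primeCompl P)) ↔
      (a - b < (s : ℤ) ∧ -(r : ℤ) < a - b)) ∧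
    ((s : ℤ) ≤ a - b → LocCoh.idealDepth mT.toIdeal P = (s : ℕ∞)) ∧
    (a - b ≤ -(r : ℤ) → LocCoh.idealDepth mT.toIdeal P = (r : ℕ∞)) := by
  classical
  have hposR := stdGr_neg k (Fin r)
  have h0R := stdGr_zero k (Fin r)
  have hposS := stdGr_neg k (Fin s)
  have h0S := stdGr_zero k (Fin s)
  have hP' := isSegreMod_shf 𝒜r ℬs a b hP
  haveI : IsNoetherianRing T :=
    Groth.Agent.Helper3.Segre.isNoetherianRing_of_segre 𝒜r ℬs 𝒯 ψ hT.2 hT.1
  haveI : Nontrivial T := nontrivial_of_segre ψ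
  have hposT := segre_pos 𝒜r ℬs 𝒯 ψ hT hposR
  have h0T := segre_zero 𝒜r ℬs 𝒯 ψ hT h0R h0S
  haveI : Algebra.FiniteType k T := finiteType_of_noeth hposT h0T
  haveI : Module.Finite T P := Groth.Agent.S19747.result k Rr 𝒜r hposR h0R Ss ℬs hposS h0S T 𝒯 ψ hT
    Rr (shf 𝒜r a) Ss (shf ℬs b) P 𝒬 φ hP'
  haveI : SetLike.GradedSMul 𝒯 𝒬 :=
    gradedSMul_of_isSegreMod 𝒜r ℬs 𝒯 ψ hT (shf 𝒜r a) (shf ℬs b) 𝒬 φ hP'
  haveI : Nontrivial P :=
    nontrivial_segre_shift k r s (by omega) (by omega) ψ a b 𝒬 φ hP'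
  have haT : (idealToAG 𝒯 mT).toIdeal =
      Ideal.span (⋃ n ∈ Set.Ioi (0 : ℤ), (toAG 𝒯 n : Set T)) := hmT
  obtain ⟨hdimP, hvan⟩ := segre_mod_van_iff 𝒜r ℬs 𝒯 ψ hT (shf 𝒜r a) (shf ℬs b) 𝒬 φ hP'
    hposR h0R hposS h0S (GrSyz.irrel (toAG 𝒜r)) (irrel_toIdeal (toAG 𝒜r))
    (GrSyz.irrel (toAG ℬs)) (irrel_toIdeal (toAG ℬs)) (idealToAG 𝒯 mT) haT r s h2r h2s
    (std_supportDim k r) (std_supportDim k s) (fun q _ => std_cm_mod k r q)
    (fun q _ => std_cm_mod k s q)
  have key : ∀ (q : ℕ) (n : ℤ), q < r + s - 1 → (Van (idealToAG 𝒯 mT) (bun 𝒯 𝒬) q n ↔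
      (n + a < 0 ∨ (q = s → -(s : ℤ) < n + b)) ∧ ((q = r → -(r : ℤ) < n + a) ∨ n + b < 0)) := by
    intro q n hq
    rw [hvan q n hq, shf_eq_bot_iff, shf_eq_bot_iff, std_piece_eq_bot_iff k r (by omega),
      std_piece_eq_bot_iff k s (by omega), van_shf_iff, van_shf_iff,
      van_std_iff k r (by omega), van_std_iff k s (by omega)]
  have hcm_iff : (∀ (q : Ideal T) [q.IsPrime], Subsingleton (LocalizedModule q.primeCompl P) ∨
      LocCoh.IsCohenMacaulayModule (Localization.AtPrime q) (LocalizedModule q.primeCompl P)) ↔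
      ∀ (q : ℕ) (n : ℤ), q < r + s - 1 → Van (idealToAG 𝒯 mT) (bun 𝒯 𝒬) q n := by
    constructor
    · intro hCM q n hq
      exact van_of_cm_mod 𝒯 𝒬 hposT h0T hCM (idealToAG 𝒯 mT) haT (r + s - 1) hdimP q hq n
    · intro h p hp
      exact cm_mod_of_van 𝒯 𝒬 hposT h0T (idealToAG 𝒯 mT) haT (r + s - 1) hdimP.le
        (fun q hq n => h q n hq) p
  have hirr : mT.toIdeal = irrel 𝒯 := toIdeal_eq_irrel 𝒯 (idealToAG 𝒯 mT) haT
  have hJM : mT.toIdeal • (⊤ : Submodule T P) ≠ ⊤ := by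
    rw [hirr]
    exact irrel_smul_top_ne_top (𝒬 := 𝒬) hposT h0T
  refine ⟨?_, ?_, ?_⟩
  · rw [hcm_iff]
    constructor
    · intro h
      constructor
      · by_contra hcon
        push Not at hcon
        have h1 := (key s (-(s : ℤ) - b) (by omega)).mp (h s (-(s : ℤ) - b) (by omega))
        rcases h1.1 with h2 | h2
        · omega
        · have h3 := h2 rfl
          omega
      · by_contra hcon
        push Not at hcon
        have h1 := (key r (-(r : ℤ) - a) (by omega)).mp (h r (-(r : ℤ) - a) (by omega))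
        rcases h1.2 with h2 | h2
        · have h3 := h2 rfl
          omega
        · omega
    · rintro ⟨h1, h2⟩ q n hq
      rw [key q n hq]
      constructor
      · by_cases hn : n + a < 0
        · exact Or.inl hn
        · right
          intro _
          omega
      · by_cases hn : n + b < 0
        · exact Or.inr hn
        · left
          intro _
          omega
  · intro hsab
    apply (idealDepth_eq_iff mT.toIdeal hJM s).mpr
    constructor
    · intro i hi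
      apply subsingleton_H_of_van (toAG 𝒯) (toAG 𝒬) (idealToAG 𝒯 mT) i
      intro g
      rw [key i g (by omega)]
      constructor
      · right
        intro h
        omega
      · by_cases hn : g + b < 0
        · exact Or.inr hn
        · left
          intro _
          omega
    · by_contra hcon
      rw [not_nontrivial_iff_subsingleton] at hcon
      have hv : Van (idealToAG 𝒯 mT) (bun 𝒯 𝒬) s (-(s : ℤ) - b) := by
        intro z _
        exact @Subsingleton.elim _ hcon _ _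
      have h1 := (key s (-(s : ℤ) - b) (by omega)).mp hv
      rcases h1.1 with h2 | h2
      · omega
      · have h3 := h2 rfl
        omega
  · intro hrab
    apply (idealDepth_eq_iff mT.toIdeal hJM r).mpr
    constructor
    · intro i hi
      apply subsingleton_H_of_van (toAG 𝒯) (toAG 𝒬) (idealToAG 𝒯 mT) i
      intro g
      rw [key i g (by omega)]
      constructor
      · by_cases hn : g + a < 0
        · exact Or.inl hn
        · right
          intro _
          omega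
      · left
        intro h
        omega
    · by_contra hcon
      rw [not_nontrivial_iff_subsingleton] at hcon
      have hv : Van (idealToAG 𝒯 mT) (bun 𝒯 𝒬) r (-(r : ℤ) - a) := by
        intro z _
        exact @Subsingleton.elim _ hcon _ _
      have h1 := (key r (-(r : ℤ) - a) (by omega)).mp hv
      rcases h1.2 with h2 | h2
      · have h3 := h2 rfl
        omega
      · omega

end Poly

section PolyOne

variable (k : Type u) [Field k] (s : ℕ)

local notation "R1" => MvPolynomial (Fin 1) k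
local notation "Ss" => MvPolynomial (Fin s) k
local notation "𝒜1" => GrSyz.stdGr k (Fin 1)
local notation "ℬs" => GrSyz.stdGr k (Fin s)

/-- **the Segre product `R(a) # S(b)` of a shifted polynomial ring in one variable and a shifted
polynomial ring in `s ≥ 2` variables** -/
theorem segre_poly_shift_one (h2s : 2 ≤ s)
    (T : Type u) [CommRing T] [Algebra k T] (𝒯 : ℤ → Submodule k T) [GradedAlgebra 𝒯]
    (ψ : T →ₐ[k] R1 ⊗[k] Ss) (hT : GrSeg.IsSegreRing 𝒜1 ℬs 𝒯 ψ)
    (mT : HomogeneousIdeal 𝒯)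
    (hmT : mT.toIdeal = Ideal.span (⋃ n ∈ Set.Ioi (0 : ℤ), (𝒯 n : Set T)))
    (a b : ℤ) (P : Type u) [AddCommGroup P] [Module T P] [Module k P] [IsScalarTower k T P]
    (𝒬 : ℤ → AddSubgroup P) [DirectSum.Decomposition 𝒬] (φ : P →ₗ[k] R1 ⊗[k] Ss)
    (hP : GrSeg.IsSegreMod ψ (fun n : ℤ => 𝒜1 (n + a)) (fun n : ℤ => ℬs (n + b)) 𝒬 φ) :
    (b ≤ a → (∀ (q : Ideal T) [q.IsPrime], Subsingleton (LocalizedModule q.primeCompl P) ∨
        LocCoh.IsCohenMacaulayModule (Localization.AtPrime q)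
          (LocalizedModule q.primeCompl P))) ∧
    (a < b → LocCoh.idealDepth mT.toIdeal P = (1 : ℕ∞)) := by
  classical
  have hposR := stdGr_neg k (Fin 1)
  have h0R := stdGr_zero k (Fin 1)
  have hposS := stdGr_neg k (Fin s)
  have h0S := stdGr_zero k (Fin s)
  have hP' := isSegreMod_shf 𝒜1 ℬs a b hP
  haveI : IsNoetherianRing T :=
    Groth.Agent.Helper3.Segre.isNoetherianRing_of_segre 𝒜1 ℬs 𝒯 ψ hT.2 hT.1
  haveI : Nontrivial T := nontrivial_of_segre ψ
  have hposT := segre_pos 𝒜1 ℬs 𝒯 ψ hT hposR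
  have h0T := segre_zero 𝒜1 ℬs 𝒯 ψ hT h0R h0S
  haveI : Algebra.FiniteType k T := finiteType_of_noeth hposT h0T
  haveI : Module.Finite T P := Groth.Agent.S19747.result k R1 𝒜1 hposR h0R Ss ℬs hposS h0S T 𝒯 ψ hT
    R1 (shf 𝒜1 a) Ss (shf ℬs b) P 𝒬 φ hP'
  haveI : SetLike.GradedSMul 𝒯 𝒬 :=
    gradedSMul_of_isSegreMod 𝒜1 ℬs 𝒯 ψ hT (shf 𝒜1 a) (shf ℬs b) 𝒬 φ hP'
  haveI : Nontrivial P :=
    nontrivial_segre_shift k 1 s le_rfl (by omega) ψ a b 𝒬 φ hP'
  have haT : (idealToAG 𝒯 mT).toIdeal =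
      Ideal.span (⋃ n ∈ Set.Ioi (0 : ℤ), (toAG 𝒯 n : Set T)) := hmT
  obtain ⟨hdimP, v0, vnec, vsuf, vhigh⟩ := segre_mod_dim_one_van 𝒜1 ℬs 𝒯 ψ hT (shf 𝒜1 a)
    (shf ℬs b) 𝒬 φ hP' hposR h0R hposS h0S (GrSyz.irrel (toAG 𝒜1)) (irrel_toIdeal (toAG 𝒜1))
    (GrSyz.irrel (toAG ℬs)) (irrel_toIdeal (toAG ℬs)) (idealToAG 𝒯 mT) haT s (by omega)
    (std_supportDim k 1) (std_supportDim k s) (fun q _ => std_cm_mod k 1 q)
    (fun q _ => std_cm_mod k s q)
  have hR1 : ∀ n : ℤ, Van (GrSyz.irrel (toAG 𝒜1)) (bun 𝒜1 (shf 𝒜1 a)) 1 n ↔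
      -((1 : ℕ) : ℤ) < n + a := by
    intro n
    rw [van_shf_iff, van_std_top_iff k 1 le_rfl]
  have hN : ∀ n : ℤ, shf ℬs b n = ⊥ ↔ n + b < 0 := by
    intro n
    rw [shf_eq_bot_iff, std_piece_eq_bot_iff k s (by omega)]
  have hirr : mT.toIdeal = irrel 𝒯 := toIdeal_eq_irrel 𝒯 (idealToAG 𝒯 mT) haT
  have hJM : mT.toIdeal • (⊤ : Submodule T P) ≠ ⊤ := by
    rw [hirr]
    exact irrel_smul_top_ne_top (𝒬 := 𝒬) hposT h0T
  refine ⟨fun hba p hp => ?_, fun hab => ?_⟩
  · refine cm_mod_of_van 𝒯 𝒬 hposT h0T (idealToAG 𝒯 mT) haT s hdimP.le ?_ p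
    intro q hq n
    rcases q with _ | _ | q'
    · exact v0 n
    · apply vsuf h2s n
      by_cases hn : n + b < 0
      · exact Or.inr ((hN n).mpr hn)
      · left
        rw [hR1 n]
        omega
    · exact vhigh (q' + 2) n (by omega) hq
  · have h := (idealDepth_eq_iff mT.toIdeal hJM 1).mpr ⟨?_, ?_⟩
    · rw [Nat.cast_one] at h
      exact h
    · intro i hi
      obtain rfl : i = 0 := by omega
      exact subsingleton_H_of_van (toAG 𝒯) (toAG 𝒬) (idealToAG 𝒯 mT) 0 (fun g => v0 g)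
    · by_contra hcon
      rw [not_nontrivial_iff_subsingleton] at hcon
      have hv : Van (idealToAG 𝒯 mT) (bun 𝒯 𝒬) 1 (-b) := by
        intro z _
        exact @Subsingleton.elim _ hcon _ _
      have hne : shf ℬs b (-b) ≠ ⊥ := by
        rw [Ne, hN (-b)]
        omega
      have h1 := (hR1 (-b)).mp (vnec (-b) hv hne)
      omega

end PolyOne

end Groth.Agent.Lib.Helper6.SegCM
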